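import Cfsg.Agent.Lib.CharTheory.SmallPartitionChars
import Cfsg.Agent.Lib.GLFlags.Cauchy

/-!
Alternating sums of the permutation characters on colourings: the irreducible characters of the
symmetric group, indexed by strictly increasing sequences (beta sets).
-/

set_option autoImplicit false
set_option linter.unusedSectionVars false

namespace CfsgLib.SymBlock

open Cfsg CfsgLib.CharTheory CfsgLib.GLFlags CfsgLib.SmallPartitionChars Finset
open scoped ComplexConjugate

variable {Ω : Type} [Fintype Ω] [DecidableEq Ω] {m : ℕ}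

/-- The fibre sizes of a colouring. -/
def cnt (f : Ω → Fin m) : Fin m → ℕ := fun i => (univ.filter fun a => f a = i).card

/-- The sum `0 + 1 + ... + (m - 1)`. -/
def tri (m : ℕ) : ℕ := ∑ i : Fin m, i.val

theorem cnt_comp (f : Ω → Fin m) (g : Equiv.Perm Ω) : cnt (f ∘ g) = cnt f := by
  funext i
  exact Finset.card_equiv g (by simp)

theorem sum_cnt (f : Ω → Fin m) : ∑ i, cnt f i = Fintype.card Ω := by
  simpa [cnt] using (Finset.card_eq_sum_card_fiberwise (f := f) (s := univ) (t := univ) (by simp)).symm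

/-- The alternant weight of a vector of fibre sizes. -/
def alt (β c : Fin m → ℕ) : ℤ :=
  ∑ κ : Equiv.Perm (Fin m), if ∀ i, c i + (κ i).val = β i then (Equiv.Perm.sign κ : ℤ) else 0

theorem alt_comp (β c : Fin m → ℕ) (σ : Equiv.Perm (Fin m)) :
    alt (β ∘ σ) (c ∘ σ) = (Equiv.Perm.sign σ : ℤ) * alt β c := by
  rw [alt, alt, Finset.mul_sum]
  refine Fintype.sum_equiv (Equiv.mulRight σ⁻¹) _ _ fun κ => ?_
  have hiff : (∀ i, (c ∘ σ) i + (κ i).val = (β ∘ σ) i) ↔
      ∀ i, c i + ((κ * σ⁻¹) i).val = β i := by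
    constructor
    · intro h i
      simpa using h (σ⁻¹ i)
    · intro h i
      simpa using h (σ i)
  change _ = _ * if (∀ i, c i + ((κ * σ⁻¹) i).val = β i) then
    (Equiv.Perm.sign (κ * σ⁻¹) : ℤ) else 0
  rw [mul_ite, mul_zero]
  refine if_congr hiff ?_ rfl
  rw [map_mul, map_inv, Units.val_mul, Int.units_inv_eq_self]
  rcases Int.units_eq_one_or (Equiv.Perm.sign σ) with e | e <;> simp [e]

/-- The alternating sum of the permutation characters on colourings. -/
noncomputable def chi (β : Fin m → ℕ) (g : Equiv.Perm Ω) : ℂ :=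
  ∑ f ∈ univ.filter (fun f : Ω → Fin m => f ∘ g = f), (alt β (cnt f) : ℂ)

theorem comp_eq_iff_inv (f : Ω → Fin m) (g : Equiv.Perm Ω) :
    f ∘ ⇑g⁻¹ = f ↔ f ∘ ⇑g = f := by
  constructor <;> intro h <;> funext a
  · simpa using (congrFun h (g a)).symm
  · simpa using (congrFun h (g⁻¹ a)).symm

theorem chi_inv (β : Fin m → ℕ) (g : Equiv.Perm Ω) : chi β g⁻¹ = chi β g :=
  Finset.sum_congr (Finset.filter_congr fun f _ => comp_eq_iff_inv f g) fun _ _ => rfl

theorem chi_conj (β : Fin m → ℕ) (g : Equiv.Perm Ω) : conj (chi β g) = chi β g := by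
  simp [chi, map_sum]

theorem chi_comp (β : Fin m → ℕ) (σ : Equiv.Perm (Fin m)) (g : Equiv.Perm Ω) :
    chi (β ∘ σ) g = (Equiv.Perm.sign σ : ℤ) * chi β g := by
  rw [chi, chi, Finset.mul_sum]
  refine Finset.sum_equiv (Equiv.arrowCongr (Equiv.refl Ω) σ) (fun f => ?_) fun f _ => ?_
  · simp only [Finset.mem_filter, Finset.mem_univ, true_and, funext_iff]
    simp
  · have hc : cnt f = cnt ((Equiv.arrowCongr (Equiv.refl Ω) σ) f) ∘ σ := by
      funext i
      simp [cnt]
    rw [hc, alt_comp, Int.cast_mul]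

theorem chi_eq_zero_of_not_injective {β : Fin m → ℕ} (h : ¬ Function.Injective β)
    (g : Equiv.Perm Ω) : chi β g = 0 := by
  obtain ⟨a, b, hab, hne⟩ := Function.not_injective_iff.1 h
  have hb : β ∘ ⇑(Equiv.swap a b) = β := by
    funext i
    rw [Function.comp_apply, Equiv.swap_apply_def]
    split_ifs with h1 h2
    · rw [h1, hab]
    · rw [h2, hab]
    · rfl
  have h1 := chi_comp β (Equiv.swap a b) g
  rw [hb, Equiv.Perm.sign_swap hne] at h1
  simp only [Units.val_neg, Units.val_one, Int.cast_neg, Int.cast_one, neg_mul, one_mul] at h1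
  linear_combination h1 / 2

theorem exists_sort {β : Fin m → ℕ} (h : Function.Injective β) :
    ∃ σ : Equiv.Perm (Fin m), StrictMono (β ∘ σ) :=
  ⟨Tuple.sort β, (Tuple.monotone_sort β).strictMono_of_injective (h.comp (Equiv.injective _))⟩

/-- Colourings with prescribed fibre sizes. -/
def Col (Ω : Type) [Fintype Ω] [DecidableEq Ω] {m : ℕ} (c : Fin m → ℕ) : Type :=
  {f : Ω → Fin m // cnt f = c}

instance (c : Fin m → ℕ) : Fintype (Col Ω c) := inferInstanceAs (Fintype {f : Ω → Fin m // cnt f = c})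

instance (c : Fin m → ℕ) : MulAction (Equiv.Perm Ω) (Col Ω c) where
  smul g f := ⟨f.1 ∘ ⇑g⁻¹, (cnt_comp f.1 g⁻¹).trans f.2⟩
  one_smul f := Subtype.ext (by funext a; show f.1 ((1 : Equiv.Perm Ω)⁻¹ a) = f.1 a; simp)
  mul_smul g h f := Subtype.ext (by
    funext a
    show f.1 ((g * h)⁻¹ a) = f.1 (h⁻¹ (g⁻¹ a))
    simp [mul_inv_rev])

theorem smul_col (c : Fin m → ℕ) (g : Equiv.Perm Ω) (f : Col Ω c) :
    (g • f).1 = f.1 ∘ ⇑g⁻¹ := rfl

theorem fixChar_col (c : Fin m → ℕ) (g : Equiv.Perm Ω) :
    fixChar (Equiv.Perm Ω) (Col Ω c) g =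
      ((univ.filter fun f : Ω → Fin m => f ∘ g = f ∧ cnt f = c).card : ℂ) := by
  rw [fixChar, ← Nat.card_eq_finsetCard]
  refine congrArg Nat.cast (Nat.card_congr
    { toFun := fun f => ⟨f.1.1, Finset.mem_filter.2 ⟨Finset.mem_univ _,
        (comp_eq_iff_inv _ g).1 (congrArg Subtype.val f.2), f.1.2⟩⟩
      invFun := fun f => ⟨⟨f.1, (Finset.mem_filter.1 f.2).2.2⟩,
        Subtype.ext ((comp_eq_iff_inv _ g).2 (Finset.mem_filter.1 f.2).2.1)⟩
      left_inv := fun _ => rfl
      right_inv := fun _ => rfl })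

/-- The signed coefficient of a colouring character. -/
def coef (β : Fin m → ℕ) (κ : Equiv.Perm (Fin m)) : ℤ :=
  if ∀ i, (κ i).val ≤ β i then (Equiv.Perm.sign κ : ℤ) else 0

theorem chi_eq_sum_fixChar (β : Fin m → ℕ) :
    (chi β : Equiv.Perm Ω → ℂ) = ∑ κ : Equiv.Perm (Fin m),
      (coef β κ : ℂ) • fixChar (Equiv.Perm Ω) (Col Ω fun i => β i - (κ i).val) := by
  funext g
  simp only [chi, alt, Int.cast_sum, Finset.sum_apply, Pi.smul_apply, smul_eq_mul, fixChar_col]
  rw [Finset.sum_comm]
  refine Finset.sum_congr rfl fun κ _ => ?_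
  by_cases h : ∀ i, (κ i).val ≤ β i
  · have hiff : ∀ f : Ω → Fin m, (∀ i, cnt f i + (κ i).val = β i) ↔
        cnt f = fun i => β i - (κ i).val := fun f => by
      rw [funext_iff]
      exact forall_congr' fun i => by have := h i; omega
    simp only [hiff, Int.cast_ite, Int.cast_zero, ← Finset.sum_filter, Finset.filter_filter,
      Finset.sum_const, nsmul_eq_mul, coef, if_pos h]
    rw [mul_comm]
  · simp only [coef, if_neg h, Int.cast_zero, zero_mul]
    refine Finset.sum_eq_zero fun f _ => ?_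
    rw [if_neg (fun h' => h fun i => by have := h' i; omega), Int.cast_zero]

theorem isGenChar_chi (β : Fin m → ℕ) :
    IsGeneralizedCharacter (Equiv.Perm Ω) (chi β) := by
  rw [chi_eq_sum_fixChar]
  exact isGenChar_sum _ _ fun κ _ => isGenChar_intSmul _ (isGenChar_of_char (isCharacter_fixChar _))

theorem chi_isClassFunction (β : Fin m → ℕ) : IsClassFunction (Equiv.Perm Ω) (chi β) := by
  intro g h
  obtain ⟨a, b, ha, hb, e⟩ := isGenChar_chi (Ω := Ω) β
  simp only [e, Pi.sub_apply, isClassFunction_char ha g h, isClassFunction_char hb g h]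

theorem chi_eq_zero_of_sum_ne {β : Fin m → ℕ} (h : ∑ i, β i ≠ Fintype.card Ω + tri m)
    (g : Equiv.Perm Ω) : chi β g = 0 := by
  refine Finset.sum_eq_zero fun f _ => Int.cast_eq_zero.2 (Finset.sum_eq_zero fun κ _ => ?_)
  refine if_neg fun hκ => h ?_
  calc ∑ i, β i = ∑ i, (cnt f i + (κ i).val) := Finset.sum_congr rfl fun i _ => (hκ i).symm
    _ = _ := by rw [Finset.sum_add_distrib, sum_cnt, tri, Equiv.sum_comp κ (fun i => i.val)]

/-- Orbits on pairs of colourings correspond to margin matrices. -/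
theorem card_orbits_col {c d : Fin m → ℕ} (hc : ∑ i, c i = Fintype.card Ω) :
    Nat.card (MulAction.orbitRel.Quotient (Equiv.Perm Ω) (Col Ω c × Col Ω d)) =
      Nat.card (Marg c d) := by
  let φ : Col Ω c × Col Ω d → Marg c d := fun z =>
    ⟨fun a b => (univ.filter fun j => z.1.1 j = a ∧ z.2.1 j = b).card,
      fun a => by
        refine Eq.trans ?_ (congrFun z.1.2 a)
        rw [cnt, Finset.card_eq_sum_card_fiberwise (f := z.2.1) (t := univ) (by simp)]
        simp [Finset.filter_filter],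
      fun b => by
        refine Eq.trans ?_ (congrFun z.2.2 b)
        rw [cnt, Finset.card_eq_sum_card_fiberwise (f := z.1.1) (t := univ) (by simp)]
        simp [Finset.filter_filter, and_comm]⟩
  refine card_eq_of_same_kernel (fun z => (Quotient.mk'' z :
    MulAction.orbitRel.Quotient (Equiv.Perm Ω) (Col Ω c × Col Ω d))) φ Quotient.mk''_surjective
    ?_ fun x y => ?_
  · rintro ⟨N, hr, hs⟩
    let S := Σ x : Fin m × Fin m, Fin (N x.1 x.2)
    have hS : Fintype.card S = Fintype.card Ω := by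
      simp [S, Fintype.sum_prod_type, hr, hc]
    let e : Ω ≃ S := Fintype.equivOfCardEq hS.symm
    have hfib : ∀ (p : Fin m × Fin m → Prop) [DecidablePred p],
        (univ.filter fun j => p (e j).1).card = ∑ x ∈ univ.filter p, N x.1 x.2 := by
      intro p _
      rw [Finset.card_equiv e (t := (univ.filter p).sigma fun _ => univ) (by simp)]
      simp
    refine ⟨(⟨fun j => (e j).1.1, funext fun a => ?_⟩, ⟨fun j => (e j).1.2, funext fun b => ?_⟩),
      Subtype.ext (funext fun a => funext fun b => ?_)⟩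
    · rw [cnt, hfib (fun x => x.1 = a), ← hr a]
      exact Finset.sum_bij' (fun x _ => x.2) (fun b _ => (a, b)) (by simp) (by simp)
        (by simp +contextual [Prod.ext_iff]) (by simp) (by simp +contextual)
    · rw [cnt, hfib (fun x => x.2 = b), ← hs b]
      exact Finset.sum_bij' (fun x _ => x.1) (fun a _ => (a, b)) (by simp) (by simp)
        (by simp +contextual [Prod.ext_iff]) (by simp) (by simp +contextual)
    · show (univ.filter fun j => (e j).1.1 = a ∧ (e j).1.2 = b).card = N a b
      rw [hfib (fun x => x.1 = a ∧ x.2 = b)]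
      simp [← Prod.ext_iff (y := (a, b)), Finset.filter_eq']
  · rw [Quotient.eq'', MulAction.orbitRel_apply, MulAction.mem_orbit_iff]
    constructor
    · rintro ⟨g, rfl⟩
      refine Subtype.ext (funext fun a => funext fun b => ?_)
      exact Finset.card_equiv g⁻¹ (by simp [smul_col, Prod.smul_fst, Prod.smul_snd])
    · intro h
      have e : ∀ k : Fin m × Fin m,
          {j // (x.1.1 j, x.2.1 j) = k} ≃ {j // (y.1.1 j, y.2.1 j) = k} := fun k =>
        Fintype.equivOfCardEq (by
          rw [Fintype.card_subtype, Fintype.card_subtype]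
          simp only [Prod.ext_iff]
          exact congrFun (congrFun (congrArg Subtype.val h) k.1) k.2)
      refine ⟨(Equiv.ofFiberEquiv e)⁻¹, Prod.ext (Subtype.ext (funext fun j => ?_))
        (Subtype.ext (funext fun j => ?_))⟩
      · show y.1.1 (((Equiv.ofFiberEquiv e)⁻¹)⁻¹ j) = x.1.1 j
        rw [inv_inv]
        exact congrArg Prod.fst (Equiv.ofFiberEquiv_map e j)
      · show y.2.1 (((Equiv.ofFiberEquiv e)⁻¹)⁻¹ j) = x.2.1 j
        rw [inv_inv]
        exact congrArg Prod.snd (Equiv.ofFiberEquiv_map e j)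

theorem classInner_chi {β γ : Fin m → ℕ} (hβ : ∑ i, β i = Fintype.card Ω + tri m)
    (hγ : ∑ i, γ i = Fintype.card Ω + tri m) :
    classInner (chi β : Equiv.Perm Ω → ℂ) (chi γ) = (altSum β γ : ℂ) := by
  have hsub : ∀ {δ : Fin m → ℕ}, ∑ i, δ i = Fintype.card Ω + tri m → ∀ {κ : Equiv.Perm (Fin m)},
      (∀ i, (κ i).val ≤ δ i) → ∑ i, (δ i - (κ i).val) = Fintype.card Ω := by
    intro δ hδ κ hκ
    have h := Finset.sum_tsub_distrib univ (fun i _ => hκ i)
    rw [h, hδ, Equiv.sum_comp κ (fun i => i.val)]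
    simp [tri]
  rw [chi_eq_sum_fixChar, chi_eq_sum_fixChar, classInner_sum_left, altSum, Int.cast_sum]
  refine Finset.sum_congr rfl fun κ _ => ?_
  rw [classInner_sum_right, Int.cast_sum]
  refine Finset.sum_congr rfl fun κ' _ => ?_
  rw [classInner_smul_left, classInner_smul_right, classInner_fixChar, map_intCast]
  by_cases h : ∀ i, (κ i).val ≤ β i
  · by_cases h' : ∀ i, (κ' i).val ≤ γ i
    · rw [card_orbits_col (hsub hβ h), if_pos ⟨h, h'⟩]
      simp only [coef, if_pos h, if_pos h']
      push_cast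
      ring
    · rw [if_neg fun hh => h' hh.2]
      simp [coef, h']
  · rw [if_neg fun hh => h hh.1]
    simp [coef, h]

theorem classInner_chi_self {β : Fin m → ℕ} (hs : StrictMono β)
    (hβ : ∑ i, β i = Fintype.card Ω + tri m) :
    classInner (chi β : Equiv.Perm Ω → ℂ) (chi β) = 1 := by
  obtain ⟨ε, hε, h⟩ := altSum_eq m
  have e : classInner (chi β : Equiv.Perm Ω → ℂ) (chi β) = (ε : ℂ) := by
    rw [classInner_chi hβ hβ, h β β hs hs, if_pos rfl]
  rcases hε with rfl | rfl
  · rw [e, Int.cast_one]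
  · have hre : 0 ≤ (classInner (chi β : Equiv.Perm Ω → ℂ) (chi β)).re := by
      simp only [classInner, Complex.mul_conj, ← Complex.ofReal_sum, ← Complex.ofReal_natCast,
        ← Complex.ofReal_inv, ← Complex.ofReal_mul, Complex.ofReal_re]
      exact mul_nonneg (inv_nonneg.2 (Nat.cast_nonneg _))
        (Finset.sum_nonneg fun _ _ => Complex.normSq_nonneg _)
    rw [e] at hre
    norm_num at hre

theorem classInner_chi_ne {β γ : Fin m → ℕ} (hs : StrictMono β) (ht : StrictMono γ) (hne : β ≠ γ) :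
    classInner (chi β : Equiv.Perm Ω → ℂ) (chi γ) = 0 := by
  by_cases hβ : ∑ i, β i = Fintype.card Ω + tri m
  · by_cases hγ : ∑ i, γ i = Fintype.card Ω + tri m
    · obtain ⟨ε, -, h⟩ := altSum_eq m
      rw [classInner_chi hβ hγ, h β γ hs ht, if_neg hne, Int.cast_zero]
    · simp [classInner, chi_eq_zero_of_sum_ne hγ]
  · simp [classInner, chi_eq_zero_of_sum_ne hβ]

/-- Admissible beta sets with `m` rows. -/
def Adm (Ω : Type) [Fintype Ω] (m : ℕ) : Type :=
  {β : Fin m → ℕ // StrictMono β ∧ ∑ i, β i = Fintype.card Ω + tri m}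

theorem exists_irr_chi (β : Adm Ω m) :
    ∃ χ : IrrCharacter (Equiv.Perm Ω), ∃ e : ℤ, (e = 1 ∨ e = -1) ∧
      (χ : Equiv.Perm Ω → ℂ) = (e : ℂ) • chi β.1 := by
  rcases irr_or_neg_of_norm_one (isGenChar_chi β.1) (classInner_chi_self β.2.1 β.2.2) with h | h
  · exact ⟨⟨_, h⟩, 1, Or.inl rfl, by simp⟩
  · exact ⟨⟨_, h⟩, -1, Or.inr rfl, by simp⟩

/-- The irreducible character of a beta set. -/
noncomputable def irrOf (β : Adm Ω m) : IrrCharacter (Equiv.Perm Ω) := (exists_irr_chi β).choose

theorem irrOf_spec (β : Adm Ω m) : ∃ e : ℤ, (e = 1 ∨ e = -1) ∧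
    (irrOf β : Equiv.Perm Ω → ℂ) = (e : ℂ) • chi β.1 := (exists_irr_chi β).choose_spec

theorem irrOf_injective : Function.Injective (irrOf : Adm Ω m → IrrCharacter (Equiv.Perm Ω)) := by
  intro β γ h
  by_contra hne
  obtain ⟨e, -, he⟩ := irrOf_spec β
  obtain ⟨e', -, he'⟩ := irrOf_spec γ
  have h1 := classInner_irr_self (irrOf β).2
  have h2 : classInner (irrOf β : Equiv.Perm Ω → ℂ) (irrOf γ : Equiv.Perm Ω → ℂ) = 1 := by
    rw [← h]; exact h1
  rw [he, he', classInner_smul_left, classInner_smul_right,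
    classInner_chi_ne β.2.1 γ.2.1 (fun q => hne (Subtype.ext q))] at h2
  simp at h2

theorem exists_beta_of_perm (Ω : Type) [Fintype Ω] [DecidableEq Ω] :
    ∃ F : ConjClasses (Equiv.Perm Ω) → Adm Ω (Fintype.card Ω), Function.Injective F := by
  classical
  set N := Fintype.card Ω
  have key : ∀ g : Equiv.Perm Ω, ∃ ν : Fin N → ℕ, Monotone ν ∧ ∑ i, ν i = N ∧
      ((univ.val.map ν).filter fun a => a ≠ 0) = g.partition.parts := by
    intro g
    set P := g.partition.parts with hP
    have hlen : Multiset.card P ≤ N := by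
      have h : Multiset.card P • 1 ≤ P.sum :=
        Multiset.card_nsmul_le_sum fun a ha => g.partition.parts_pos ha
      rw [g.partition.parts_sum] at h
      simpa using h
    set L := (P + Multiset.replicate (N - Multiset.card P) 0).sort (· ≤ ·) with hL
    have hLlen : L.length = N := by simp [hL]; omega
    refine ⟨fun i => L[i.val]'(i.2.trans_eq hLlen.symm), ?_, ?_, ?_⟩
    · intro i j hij
      exact ((Multiset.pairwise_sort _ (· ≤ ·)).sortedLE).monotone_get
        (show (⟨i.val, i.2.trans_eq hLlen.symm⟩ : Fin L.length) ≤ ⟨j.val, j.2.trans_eq hLlen.symm⟩ from hij)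
    all_goals
      have hmap : (univ : Finset (Fin N)).val.map (fun i => L[i.val]'(i.2.trans_eq hLlen.symm)) = (L : Multiset ℕ) := by
        rw [Fin.univ_val_map]
        refine congrArg _ (List.ext_getElem (by simp [hLlen]) fun i h1 h2 => ?_)
        simp
    · rw [Finset.sum_eq_multiset_sum, hmap, hL, Multiset.sort_eq, Multiset.sum_add]
      simp [hP, g.partition.parts_sum, N]
    · rw [hmap, hL, Multiset.sort_eq, Multiset.filter_add,
        Multiset.filter_eq_self.2 fun a ha => (g.partition.parts_pos ha).ne',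
        Multiset.filter_eq_nil.2 fun a ha => by simp [Multiset.eq_of_mem_replicate ha], add_zero]
  choose ν hmono hsum hparts using key
  refine ⟨fun C => ⟨fun i => ν (ConjClasses.exists_rep C).choose i + i.val,
    (hmono _).add_strictMono Fin.val_strictMono, ?_⟩, fun C C' h => ?_⟩
  · rw [Finset.sum_add_distrib, hsum, tri]
  · have hν : ν (ConjClasses.exists_rep C).choose = ν (ConjClasses.exists_rep C').choose :=
      funext fun i => Nat.add_right_cancel (congrFun (congrArg Subtype.val h) i)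
    rw [← (ConjClasses.exists_rep C).choose_spec, ← (ConjClasses.exists_rep C').choose_spec,
      ConjClasses.mk_eq_mk_iff_isConj, Equiv.Perm.partition_eq_of_isConj]
    exact Nat.Partition.ext (by rw [← hparts, ← hparts, hν])

/-- With as many rows as points every irreducible character occurs. -/
theorem irrOf_surjective :
    Function.Surjective (irrOf : Adm Ω (Fintype.card Ω) → IrrCharacter (Equiv.Perm Ω)) := by
  haveI : Finite (Adm Ω (Fintype.card Ω)) := Finite.of_injective _ irrOf_injective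
  obtain ⟨F, hF⟩ := exists_beta_of_perm Ω
  have h : Nat.card (IrrCharacter (Equiv.Perm Ω)) ≤ Nat.card (Adm Ω (Fintype.card Ω)) := by
    rw [card_irr_eq_card_conjClasses]
    exact Nat.card_le_card_of_injective F hF
  exact ((Nat.bijective_iff_injective_and_card _).2
    ⟨irrOf_injective, le_antisymm (Nat.card_le_card_of_injective _ irrOf_injective) h⟩).2

end CfsgLib.SymBlock
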