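import Cfsg.Agent.Lib.Blocks.SubsectionCount
import Cfsg.Agent.Lib.Blocks.HarrisKnorr
import Cfsg.Agent.Lib.Blocks.Principal

/-!
Counting blocks' characters with sections; normal subgroups of element centralizers in defect groups.
-/

set_option autoImplicit false
set_option linter.unusedSectionVars false
set_option linter.style.haveILetI false

namespace CfsgLib.SymBlock

open Cfsg CfsgLib.CharTheory CfsgLib.Blocks
open scoped ComplexConjugate

universe u

variable {p : ℕ} {M : Ideal AlgInt} {G : Type u} [Group G] [Fintype G]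

theorem orderOf_pow_of_mem {D : Subgroup G} (hp : p.Prime) (hD : IsPGroup p D) {x : G} (hx : x ∈ D) :
    ∃ k : ℕ, orderOf x = p ^ k := by
  obtain ⟨k, hk⟩ := hD ⟨x, hx⟩
  obtain ⟨i, -, hi⟩ := (Nat.dvd_prime_pow hp).1
    (orderOf_dvd_of_pow_eq_one (congrArg Subtype.val hk))
  exact ⟨i, hi⟩

/-- Every element of a defect group carries an inducing block of its centralizer. -/
theorem rankSum_pos_of_mem (hM : IsPModular p M) {B : Set (IrrCharacter G)} (hB : IsPBlock M B)
    {D : Subgroup G} (hD : IsDefectGroup p M B D) {x : G} (hx : x ∈ D) :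
    0 < rankSum p M (Subgroup.centralizer ((Subgroup.zpowers x : Subgroup G) : Set G)) B := by
  classical
  haveI : Fact p.Prime := ⟨hM.1⟩
  haveI : ∀ Q : Subgroup G, Fintype (Subgroup.centralizer (Q : Set G)) :=
    fun Q => Fintype.ofFinite _
  obtain ⟨e, hmax⟩ := exists_maximal_at hM hB hD
  have hDp : IsPGroup p D := hmax.1.1.1
  have hle : Subgroup.zpowers x ≤ D := Subgroup.zpowers_le.2 hx
  obtain ⟨f, ⟨hf, hlef⟩, -⟩ := existsUnique_subpair hM hDp hmax.1.1.2 _ hle
  have hind := (induced_centralizer_iff hM (hDp.to_le hle)).2 ((pairOf_subpair_iff hM hlef B).2 hmax.1)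
  exact (blockRank_pos hM hf).trans_le (blockRank_le_rankSum (p := p) hind)

/-- Each class of nontrivial elements meeting a defect group costs one character. -/
theorem blockRank_add_card_le (hM : IsPModular p M) {B : Set (IrrCharacter G)} (hB : IsPBlock M B)
    {D : Subgroup G} (hD : IsDefectGroup p M B D) (T : Finset G)
    (hT : ∀ x ∈ T, x ≠ 1 ∧ ∃ c : G, c * x * c⁻¹ ∈ D)
    (hne : ∀ x ∈ T, ∀ y ∈ T, IsConj x y → x = y) :
    blockRank p B + T.card ≤ Nat.card B := by
  classical
  haveI : Fact p.Prime := ⟨hM.1⟩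
  have hDp := defectGroup_isPGroup hD
  have hP : ∀ x ∈ T, ∃ k : ℕ, orderOf x = p ^ k := fun x hx => by
    obtain ⟨c, hc⟩ := (hT x hx).2
    obtain ⟨k, hk⟩ := orderOf_pow_of_mem hM.1 hDp hc
    exact ⟨k, by rw [← hk, conj_orderOf]⟩
  set Q : Finset (ConjClasses G) := Finset.univ.filter fun C => ∃ k : ℕ, orderOf (crep C) = p ^ k
  let pick : ConjClasses G → G := fun C =>
    if h : ∃ x ∈ insert (1 : G) T, ConjClasses.mk x = C then h.choose else crep C
  have hpick : ∀ C, ConjClasses.mk (pick C) = C := by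
    intro C
    simp only [pick]
    split_ifs with h
    · exact h.choose_spec.2
    · exact mk_crep C
  have hpick' : ∀ x ∈ insert (1 : G) T, pick (ConjClasses.mk x) = x := by
    intro x hx
    have h : ∃ y ∈ insert (1 : G) T, ConjClasses.mk y = ConjClasses.mk x := ⟨x, hx, rfl⟩
    simp only [pick, dif_pos h]
    obtain ⟨hy, hyx⟩ := h.choose_spec
    rw [ConjClasses.mk_eq_mk_iff_isConj] at hyx
    rcases Finset.mem_insert.1 hx with rfl | hxT
    · exact isConj_one_left.1 hyx
    · rcases Finset.mem_insert.1 hy with h1 | h1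
      · rw [h1] at hyx
        exact absurd (isConj_one_right.1 hyx) (hT x hxT).1
      · exact hne _ h1 _ hxT hyx
  have hord : ∀ {a b : G}, IsConj a b → orderOf a = orderOf b := by
    intro a b h
    obtain ⟨c, rfl⟩ := isConj_iff.1 h
    exact (conj_orderOf c a).symm
  set X := Q.image pick
  have hX : ∀ x ∈ X, ∃ k : ℕ, orderOf x = p ^ k := by
    intro x hx
    obtain ⟨C, hC, rfl⟩ := Finset.mem_image.1 hx
    obtain ⟨k, hk⟩ := (Finset.mem_filter.1 hC).2
    exact ⟨k, by rw [hord (ConjClasses.mk_eq_mk_iff_isConj.1 ((hpick C).trans (mk_crep C).symm)), hk]⟩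
  have hXrep : ∀ g : G, (∃ k : ℕ, orderOf g = p ^ k) → ∃! x, x ∈ X ∧ IsConj g x := by
    intro g hg
    refine ⟨pick (ConjClasses.mk g), ⟨Finset.mem_image.2 ⟨_, Finset.mem_filter.2 ⟨Finset.mem_univ _, ?_⟩, rfl⟩,
      (ConjClasses.mk_eq_mk_iff_isConj.1 (hpick _)).symm⟩, ?_⟩
    · obtain ⟨k, hk⟩ := hg
      exact ⟨k, by rw [hord (isConj_crep g), hk]⟩
    · rintro x ⟨hx, hgx⟩
      obtain ⟨C, -, rfl⟩ := Finset.mem_image.1 hx
      rw [ConjClasses.mk_eq_mk_iff_isConj.2 hgx, hpick]
  have hsub : insert (1 : G) T ⊆ X := by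
    intro x hx
    refine Finset.mem_image.2 ⟨ConjClasses.mk x, Finset.mem_filter.2 ⟨Finset.mem_univ _, ?_⟩, hpick' x hx⟩
    rw [hord (isConj_crep x)]
    rcases Finset.mem_insert.1 hx with rfl | hxT
    · exact ⟨0, orderOf_one⟩
    · exact hP x hxT
  rw [card_eq_sum_rankSum hM hB X hX hXrep]
  refine le_trans ?_ (Finset.sum_le_sum_of_subset hsub)
  haveI : Fintype (Subgroup.centralizer ((Subgroup.zpowers (1 : G) : Subgroup G) : Set G)) :=
    Fintype.ofFinite _
  rw [Finset.sum_insert fun h => (hT 1 h).1 rfl,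
    rankSum_central hM (isCentr_zpowers (1 : G)) ⟨0, orderOf_one⟩ (Subgroup.one_mem _) hB,
    Finset.card_eq_sum_ones]
  refine Nat.add_le_add le_rfl (Finset.sum_le_sum fun x hx => ?_)
  obtain ⟨c, hc⟩ := (hT x hx).2
  refine Nat.one_le_iff_ne_zero.2 (Nat.pos_iff_ne_zero.1 ?_)
  refine rankSum_pos_of_mem hM hB (isDefectGroup_conj hD c⁻¹) ?_
  exact conjMap_mem_iff.2 (by simpa [mul_assoc] using hc)

/-- If a block has a nonzero value at a `p`-element, every normal `p`-subgroup of the centralizer of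
that element lies in a defect group. -/
theorem exists_defectGroup_normal_le (hM : IsPModular p M) {x : G} {H : Subgroup G} [Fintype H]
    (hH : IsCentr x H) (hx : ∃ k : ℕ, orderOf x = p ^ k) {B : Set (IrrCharacter G)}
    (hB : IsPBlock M B) {χ : IrrCharacter G} (hχ : χ ∈ B) (hval : (χ : G → ℂ) x ≠ 0)
    (E : Subgroup H) [E.Normal] (hE : IsPGroup p E) :
    ∃ D : Subgroup G, IsDefectGroup p M B D ∧ E.map H.subtype ≤ D := by
  classical
  haveI := res_isDomain hM
  have hy : ¬ p ∣ orderOf (1 : H) := by simpa using hM.1.ne_one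
  have h := sec_eq_overBlocks hM hH hx hB χ hy
  rw [ind_of_mem hχ, one_mul, blockPart_apply] at h
  have hne : (bset (overBlocks M H B)).Nonempty := by
    by_contra he
    rw [Finset.not_nonempty_iff_eq_empty] at he
    rw [he, Finset.sum_empty] at h
    refine hval ?_
    have e : sec x H (χ : G → ℂ) (1 : H) = (χ : G → ℂ) x := by simp [sec]
    rw [← e]
    exact h.symm
  obtain ⟨ψ, hψ⟩ := hne
  have hind : IsInducedBlock M H (blockOf M (ψ : H → ℂ)) B := mem_bset.1 hψ
  obtain ⟨k, hk, hu⟩ : ∃ k ∈ Subgroup.centralizer (E : Set H), ¬ MemLocalIdeal M (blockCoeff B (k : G)) := by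
    by_contra hc
    push Not at hc
    have h1 := res_omega_of_induced H hM ψ χ (hind.2.2 ψ (mem_blockOf_self hM ψ) χ hχ)
      (blockCoeff_isClassFunction B) (memRing_blockCoeff hM hB)
    have h2 : omega (χ : G → ℂ) (blockCoeff B) = 1 := by
      rw [← cf_ind, omega_cf, ind_of_mem hχ]
    have hres : IsClassFunction H (fun k : H => blockCoeff B k) :=
      fun a b => blockCoeff_isClassFunction _ (a : G) (b : G)
    rw [h2, res_one, res_omega_congr_normal hM E hE hres (f' := fun _ => 0) (fun _ _ => rfl)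
      (fun a => memRing_blockCoeff hM hB _) (fun _ => (loc hM).zero_mem)
      (fun a ha => by
        rw [res_zero, res_eq_zero_iff hM (memRing_blockCoeff hM hB _)]; exact hc a ha) ψ] at h1
    simp [omega, res_zero hM] at h1
  refine exists_defectGroup_ge hM hB hu (hE.map _) ?_
  rintro _ ⟨e, he, rfl⟩
  exact Subgroup.mem_centralizer_singleton_iff.2 (congrArg Subtype.val (hk e he))

/-- An abelian subgroup of exponent `p` conjugate into a group of bounded sectional rank. -/
theorem card_le_of_sectional {D E : Subgroup G} {s : ℕ} (hs : SectionalPRankLE p s D) (hED : E ≤ D)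
    (hc : ∀ a ∈ E, ∀ b ∈ E, a * b = b * a) (he : ∀ a ∈ E, a ^ p = 1) : Nat.card E ≤ p ^ s := by
  have h := hs (E.subgroupOf D) ⊥ ⊤ ?_ ?_
  · rwa [Subgroup.card_top, Nat.card_congr (QuotientGroup.quotientBot (G := E.subgroupOf D)).toEquiv,
      Nat.card_congr (Subgroup.subgroupOfEquivOfLe hED).toEquiv] at h
  · refine ⟨⟨fun a b => Subtype.ext ?_⟩⟩
    show (a : E.subgroupOf D ⧸ (⊥ : Subgroup (E.subgroupOf D))) * b = b * a
    obtain ⟨a', ha'⟩ := QuotientGroup.mk'_surjective _ (a : E.subgroupOf D ⧸ (⊥ : Subgroup (E.subgroupOf D)))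
    obtain ⟨b', hb'⟩ := QuotientGroup.mk'_surjective _ (b : E.subgroupOf D ⧸ (⊥ : Subgroup (E.subgroupOf D)))
    rw [← ha', ← hb', ← map_mul, ← map_mul]
    exact congrArg _ (Subtype.ext (Subtype.ext (hc _ a'.2 _ b'.2)))
  · intro a _
    obtain ⟨a', ha'⟩ := QuotientGroup.mk'_surjective _ a
    rw [← ha', ← map_pow, show a' ^ p = 1 from Subtype.ext (Subtype.ext (by
      simpa using he _ a'.2)), map_one]

end CfsgLib.SymBlock
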