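import Mathlib

/-!
Bounds for the numbers of tuples of partitions with given total.
-/

set_option autoImplicit false

namespace CfsgLib.SymBlock

open Finset

/-- Partitions of `w` into parts of size at most `m`. -/
def pa : ℕ → ℕ → ℕ
  | 0, w => if w = 0 then 1 else 0
  | m + 1, w => ∑ j ∈ range (w / (m + 1) + 1), pa m (w - j * (m + 1))

/-- Partitions of `w`. -/
def pn (w : ℕ) : ℕ := pa w w

/-- `p`-tuples of partitions with total `w`. -/
def kk : ℕ → ℕ → ℕ
  | 0, w => if w = 0 then 1 else 0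
  | p + 1, w => ∑ j ∈ range (w + 1), pn j * kk p (w - j)

theorem pa_succ_of_lt {m w : ℕ} (h : w < m + 1) : pa (m + 1) w = pa m w := by
  rw [pa, Nat.div_eq_of_lt h]
  simp

theorem pa_succ_of_le {m w : ℕ} (h : m + 1 ≤ w) :
    pa (m + 1) w = pa m w + pa (m + 1) (w - (m + 1)) := by
  rw [pa, pa]
  have e : w / (m + 1) = (w - (m + 1)) / (m + 1) + 1 :=
    Nat.div_eq_sub_div (Nat.succ_pos _) h
  rw [e, Finset.sum_range_succ' _ ((w - (m + 1)) / (m + 1) + 1)]
  simp only [zero_mul, Nat.sub_zero]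
  rw [add_comm]
  congr 1
  exact Finset.sum_congr rfl fun j _ => congrArg (pa m) (by rw [add_mul, one_mul]; omega)

theorem pa_le_succ (m w : ℕ) : pa m w ≤ pa (m + 1) w := by
  rcases Nat.lt_or_ge w (m + 1) with h | h
  · rw [pa_succ_of_lt h]
  · rw [pa_succ_of_le h]; omega

theorem pa_eq_pn {m w : ℕ} (h : w ≤ m) : pa m w = pn w := by
  induction m, h using Nat.le_induction with
  | base => rfl
  | succ k hk ih => rw [pa_succ_of_lt (by omega), ih]

theorem pa_le_pn (m w : ℕ) : pa m w ≤ pn w := by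
  rcases Nat.lt_or_ge m w with h | h
  · exact monotone_nat_of_le_succ (f := fun k => pa k w) (fun k => pa_le_succ k w) h.le
  · rw [pa_eq_pn h]

theorem pa_zero_right (m : ℕ) : pa m 0 = 1 := by rw [pa_eq_pn (Nat.zero_le m)]; rfl

theorem pa_one (w : ℕ) : pa 1 w = 1 := by
  simp only [pa]
  rw [Finset.sum_eq_single w]
  · simp
  · intro j hj hne
    rw [Finset.mem_range] at hj
    rw [if_neg]
    simp only [zero_add, Nat.div_one, mul_one] at hj ⊢
    omega
  · intro h
    simp at h

theorem pa_two (w : ℕ) : pa 2 w = w / 2 + 1 := by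
  rw [pa]
  simp [pa_one]

theorem pn_zero : pn 0 = 1 := rfl

theorem pn_le_sum {m w : ℕ} (hm : 2 ≤ m) :
    pa m w ≤ pa 2 w + ∑ k ∈ Ico 3 (m + 1), pn (w - k) := by
  induction m, hm using Nat.le_induction with
  | base => simp
  | succ k hk ih =>
    rw [Finset.sum_Ico_succ_top (by omega)]
    rcases Nat.lt_or_ge w (k + 1) with h | h
    · rw [pa_succ_of_lt h]; omega
    · rw [pa_succ_of_le h]
      have := pa_le_pn (k + 1) (w - (k + 1))
      omega

theorem geom_aux {w : ℕ} (hw : 2 ≤ w) :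
    3 * ∑ k ∈ Ico 3 (w + 1), 5 ^ k * 8 ^ (w - k) + 5 ^ (w + 1) = 125 * 8 ^ (w - 2) := by
  induction w, hw using Nat.le_induction with
  | base => simp
  | succ k hk ih =>
    rw [Finset.sum_Ico_succ_top (by omega), Nat.sub_self, pow_zero, mul_one]
    have e : ∑ j ∈ Ico 3 (k + 1), 5 ^ j * 8 ^ (k + 1 - j) =
        8 * ∑ j ∈ Ico 3 (k + 1), 5 ^ j * 8 ^ (k - j) := by
      rw [Finset.mul_sum]
      refine Finset.sum_congr rfl fun j hj => ?_
      rw [show k + 1 - j = (k - j) + 1 by have := (Finset.mem_Ico.1 hj).2; omega, pow_succ]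
      ring
    rw [e, show k + 1 - 2 = (k - 2) + 1 by omega, pow_succ (8 : ℕ) (k - 2),
      pow_succ (5 : ℕ) (k + 1)]
    linarith

theorem pn_exp (w : ℕ) : 5 ^ w * pn w ≤ 8 ^ w := by
  induction w using Nat.strong_induction_on with
  | _ w ih =>
    rcases Nat.lt_or_ge w 5 with h | h
    · interval_cases w <;> decide +kernel
    · have h1 := pn_le_sum (m := w) (w := w) (by omega)
      rw [pa_two] at h1
      change pn w ≤ _ at h1
      have h2 : 5 ^ w * ∑ k ∈ Ico 3 (w + 1), pn (w - k) ≤ ∑ k ∈ Ico 3 (w + 1), 5 ^ k * 8 ^ (w - k) := by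
        rw [Finset.mul_sum]
        refine Finset.sum_le_sum fun k hk => ?_
        obtain ⟨hk3, hkw⟩ := Finset.mem_Ico.1 hk
        calc 5 ^ w * pn (w - k) = 5 ^ k * (5 ^ (w - k) * pn (w - k)) := by
              rw [← mul_assoc, ← pow_add, Nat.add_sub_cancel' (by omega)]
          _ ≤ _ := Nat.mul_le_mul_left _ (ih _ (by omega))
      have h3 := geom_aux (w := w) (by omega)
      have h4 : 3 * 5 ^ w * (w + 2) ≤ 134 * 8 ^ (w - 2) := by
        clear h1 h2 h3 ih
        induction w, h using Nat.le_induction with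
        | base => norm_num
        | succ k hk ih2 =>
          rw [show k + 1 - 2 = (k - 2) + 1 by omega, pow_succ, pow_succ]
          have := Nat.mul_le_mul_left 8 ih2
          nlinarith [Nat.one_le_pow k 5 (by norm_num)]
      have h5 : (w / 2) * 2 ≤ w := Nat.div_mul_le_self w 2
      have h6 : 3 * (5 ^ w * pn w) ≤ 3 * (5 ^ w * (w / 2 + 1)) + 125 * 8 ^ (w - 2) := by
        have := Nat.mul_le_mul_left (5 ^ w) h1
        rw [Nat.mul_add (5 ^ w)] at this
        have h1' : 5 ^ w * pn w ≤ 5 ^ w * (w / 2 + 1) +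
            5 ^ w * ∑ k ∈ Ico 3 (w + 1), pn (w - k) := this
        linarith [pow_pos (show 0 < 5 by norm_num) (w + 1), pow_pos (show 0 < 5 by norm_num) w]
      have h7 : 8 ^ w = 64 * 8 ^ (w - 2) := by
        rw [show (64 : ℕ) = 8 ^ 2 by norm_num, ← pow_add, Nat.add_sub_cancel' (by omega)]
      have h8 : 2 * (3 * (5 ^ w * (w / 2 + 1))) ≤ 3 * 5 ^ w * (w + 2) := by
        calc _ = 3 * 5 ^ w * (w / 2 * 2 + 2) := by ring
          _ ≤ _ := Nat.mul_le_mul_left _ (by omega)
      omega

theorem pn_le_two_pow (w : ℕ) : pn w ≤ 2 ^ w := by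
  have h := pn_exp w
  have : 5 ^ w * pn w ≤ 5 ^ w * 2 ^ w := by
    refine h.trans ?_
    rw [← mul_pow]
    exact Nat.pow_le_pow_left (by norm_num) w
  exact Nat.le_of_mul_le_mul_left this (pow_pos (by norm_num) w)

theorem pn_le_two_pow_pred (w : ℕ) (hw : 1 ≤ w) : 2 * pn w ≤ 2 ^ w := by
  rcases Nat.lt_or_ge w 4 with h | h
  · interval_cases w <;> decide +kernel
  · have h1 := pn_exp w
    have h2 : 2 * 8 ^ w ≤ 10 ^ w := by
      clear h1
      induction w, h using Nat.le_induction with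
      | base => norm_num
      | succ k hk ih => rw [pow_succ, pow_succ]; have := ih (by omega); omega
    have h3 : 5 ^ w * (2 * pn w) ≤ 5 ^ w * 2 ^ w := by
      rw [← mul_pow]
      norm_num at h2 ⊢
      nlinarith
    exact Nat.le_of_mul_le_mul_left h3 (pow_pos (by norm_num) w)

theorem kk_one (w : ℕ) : kk 1 w = pn w := by
  simp only [kk]
  rw [Finset.sum_eq_single w]
  · simp
  · intro j hj hne
    rw [Finset.mem_range] at hj
    rw [if_neg (by omega), mul_zero]
  · simp

theorem kk_two (w : ℕ) : kk 2 w = ∑ j ∈ range (w + 1), pn j * pn (w - j) := by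
  rw [kk]
  simp [kk_one]

theorem kk_two_lt {w : ℕ} (hw : 7 ≤ w) : kk 2 w < 2 ^ w := by
  rcases Nat.lt_or_ge w 12 with h | h
  · interval_cases w <;> decide +kernel
  · have h1 : 5 ^ w * kk 2 w ≤ (w + 1) * 8 ^ w := by
      rw [kk_two, Finset.mul_sum]
      refine (Finset.sum_le_sum (g := fun _ => 8 ^ w) fun j hj => ?_).trans (by simp)
      have hj' : j ≤ w := Nat.lt_succ_iff.1 (Finset.mem_range.1 hj)
      calc 5 ^ w * (pn j * pn (w - j)) = (5 ^ j * pn j) * (5 ^ (w - j) * pn (w - j)) := by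
            conv_lhs => rw [← Nat.add_sub_cancel' hj', pow_add, Nat.add_sub_cancel' hj']
            ring
        _ ≤ 8 ^ j * 8 ^ (w - j) := Nat.mul_le_mul (pn_exp _) (pn_exp _)
        _ = _ := by rw [← pow_add, Nat.add_sub_cancel' hj']
    have h2 : (w + 1) * 8 ^ w < 10 ^ w := by
      clear h1
      induction w, h using Nat.le_induction with
      | base => norm_num
      | succ k hk ih =>
        rw [pow_succ, pow_succ]
        have := ih (by omega)
        have h4 : 4 * (k + 2) ≤ 5 * (k + 1) := by omega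
        nlinarith [Nat.one_le_pow k 8 (by norm_num), Nat.mul_le_mul_left (8 ^ k) h4]
    have h3 : 5 ^ w * kk 2 w < 5 ^ w * 2 ^ w := by
      rw [← mul_pow]
      exact lt_of_le_of_lt h1 h2
    exact Nat.lt_of_mul_lt_mul_left h3

theorem kk_two_le (w : ℕ) : 4 * kk 2 w ≤ 5 * 2 ^ w := by
  rcases Nat.lt_or_ge w 7 with h | h
  · interval_cases w <;> decide +kernel
  · have := kk_two_lt h
    omega

theorem kk_three_le (w : ℕ) : kk 3 w ≤ 3 ^ w := by
  rcases Nat.lt_or_ge w 4 with h | h
  · interval_cases w <;> decide +kernel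
  · have h1 : 8 * kk 3 w ≤ 5 * 2 ^ w * (w + 2) := by
      rw [kk, Finset.mul_sum, Finset.sum_range_succ']
      have hrest : ∑ j ∈ range w, 8 * (pn (j + 1) * kk 2 (w - (j + 1))) ≤
          ∑ j ∈ range w, 5 * 2 ^ w := by
        refine Finset.sum_le_sum fun j hj => ?_
        have hj' : j + 1 ≤ w := Finset.mem_range.1 hj
        calc 8 * (pn (j + 1) * kk 2 (w - (j + 1)))
            = (2 * pn (j + 1)) * (4 * kk 2 (w - (j + 1))) := by ring
          _ ≤ 2 ^ (j + 1) * (5 * 2 ^ (w - (j + 1))) :=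
              Nat.mul_le_mul (pn_le_two_pow_pred _ (by omega)) (kk_two_le _)
          _ = _ := by rw [mul_left_comm, ← pow_add, Nat.add_sub_cancel' hj']
      rw [Finset.sum_const, Finset.card_range, smul_eq_mul] at hrest
      have h0 := kk_two_le w
      rw [pn_zero, one_mul, Nat.sub_zero]
      nlinarith
    have h2 : 5 * 2 ^ w * (w + 2) ≤ 8 * 3 ^ w := by
      clear h1
      induction w, h using Nat.le_induction with
      | base => norm_num
      | succ k hk ih =>
        rw [pow_succ, pow_succ]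
        have h4 : 2 * (k + 3) ≤ 3 * (k + 2) := by omega
        nlinarith [Nat.mul_le_mul_left (5 * 2 ^ k) h4]
    omega

theorem kk_succ_le {p : ℕ} (hp : 1 ≤ p) (h : ∀ w, kk p w ≤ p ^ w) (w : ℕ) :
    kk (p + 1) w ≤ (p + 1) ^ w := by
  let c : ℕ → ℕ := fun j => if j = 0 then 1 else 2 ^ (j - 1)
  have hc : ∀ j, pn j ≤ c j := by
    intro j
    rcases Nat.eq_zero_or_pos j with rfl | hj
    · simp [c, pn_zero]
    · have := pn_le_two_pow_pred j hj
      simp only [c, if_neg hj.ne']
      rw [show j = j - 1 + 1 by omega, pow_succ] at this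
      rw [show j - 1 + 1 = j by omega] at this
      omega
  refine (Finset.sum_le_sum fun j _ => Nat.mul_le_mul (hc j) (h _)).trans ?_
  induction w with
  | zero => simp [c]
  | succ k ih =>
    rw [Finset.sum_range_succ, Nat.sub_self, pow_zero, mul_one]
    have e : ∑ j ∈ range (k + 1), c j * p ^ (k + 1 - j) = p * ∑ j ∈ range (k + 1), c j * p ^ (k - j) := by
      rw [Finset.mul_sum]
      refine Finset.sum_congr rfl fun j hj => ?_
      rw [show k + 1 - j = (k - j) + 1 by have := Finset.mem_range.1 hj; omega, pow_succ]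
      ring
    rw [e, show c (k + 1) = 2 ^ k from rfl, pow_succ]
    have h2 : 2 ^ k ≤ (p + 1) ^ k := Nat.pow_le_pow_left (by omega) k
    nlinarith

theorem kk_le_pow {p : ℕ} (hp : 3 ≤ p) : ∀ w, kk p w ≤ p ^ w := by
  induction p, hp using Nat.le_induction with
  | base => exact kk_three_le
  | succ k hk ih => exact kk_succ_le (by omega) ih

/-- Small values for two components. -/
theorem kk_two_small {w : ℕ} (h : w ≤ 6) : kk 2 w = [1, 2, 5, 10, 20, 36, 65].getD w 0 := by
  interval_cases w <;> decide +kernel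

end CfsgLib.SymBlock
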