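import Cfsg.Agent.Lib.SymBlock.Split
import Cfsg.Agent.Lib.SymBlock.Count

/-!
Residue classes of beta sets: cores, weights and their number.
-/

set_option autoImplicit false
set_option linter.unusedSectionVars false

namespace CfsgLib.SymBlock

open Finset

variable {m p : ℕ} {β γ : Fin m → ℕ}

theorem tri_eq_sum_range (k : ℕ) : tri k = ∑ i ∈ range k, i :=
  Fin.sum_univ_eq_sum_range (fun i => i) k

theorem tri_succ (k : ℕ) : tri (k + 1) = tri k + k := by
  rw [tri_eq_sum_range, tri_eq_sum_range, Finset.sum_range_succ]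

theorem tri_le_sum (S : Finset ℕ) : tri S.card ≤ ∑ x ∈ S, x := by
  rw [← Finset.sum_coe_sort S, ← Equiv.sum_comp (S.orderIsoOfFin rfl).toEquiv, tri]
  refine Finset.sum_le_sum fun i _ => ?_
  have h : StrictMono fun i : Fin S.card => ((S.orderIsoOfFin rfl i : S) : ℕ) :=
    fun a b hab => (S.orderIsoOfFin rfl).strictMono hab
  have key : ∀ (k : ℕ) (hk : k < S.card), k ≤ ((S.orderIsoOfFin rfl ⟨k, hk⟩ : S) : ℕ) := by
    intro k
    induction k with
    | zero => exact fun _ => Nat.zero_le _
    | succ l ih =>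
      intro hl
      exact Nat.succ_le_of_lt ((ih (by omega)).trans_lt
        (h (show (⟨l, by omega⟩ : Fin S.card) < ⟨l + 1, hl⟩ from Nat.lt_succ_self l)))
  exact key i.1 i.2

theorem eq_range_of_sum_eq {S : Finset ℕ} (h : ∑ x ∈ S, x = tri S.card) : S = range S.card := by
  rcases S.eq_empty_or_nonempty with rfl | hne
  · rfl
  refine Finset.eq_of_subset_of_card_le (fun x hx => ?_) (by simp)
  by_contra hxc
  rw [Finset.mem_range, not_lt] at hxc
  have h1 := tri_le_sum (S.erase x)
  have h2 := Finset.sum_erase_add S id hx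
  rw [Finset.card_erase_of_mem hx] at h1
  have h3 := tri_succ (S.card - 1)
  rw [Nat.sub_add_cancel hne.card_pos] at h3
  simp only [id] at h2
  have := hne.card_pos
  omega

/-- The quotients of the entries with residue `r`. -/
def qs (p : ℕ) (β : Fin m → ℕ) (r : ℕ) : Finset ℕ :=
  (univ.filter fun i => β i % p = r).image fun i => β i / p

theorem card_qs (hβ : Function.Injective β) (r : ℕ) : (qs p β r).card = rc p β r := by
  refine Finset.card_image_of_injOn fun a ha b hb e => hβ ?_
  simp only [Finset.coe_filter, Finset.mem_univ, true_and, Set.mem_setOf_eq] at ha hb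
  rw [← Nat.div_add_mod (β a) p, ← Nat.div_add_mod (β b) p, ha, hb, e]

/-- The weight. -/
def wt (p : ℕ) (β : Fin m → ℕ) : ℕ := ∑ r ∈ range p, (∑ x ∈ qs p β r, x - tri (rc p β r))

/-- The sum of the entries of a core with given residue counts. -/
def coreSum (p : ℕ) (k : ℕ → ℕ) : ℕ := ∑ r ∈ range p, (r * k r + p * tri (k r))

theorem sum_eq_coreSum_add (hp : 0 < p) (hβ : Function.Injective β) :
    ∑ i, β i = coreSum p (rc p β) + p * wt p β := by
  rw [wt, Finset.mul_sum, coreSum, ← Finset.sum_add_distrib,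
    ← Finset.sum_fiberwise_of_maps_to (t := range p) (g := fun i => β i % p)
      (fun i _ => Finset.mem_range.2 (Nat.mod_lt _ hp))]
  refine Finset.sum_congr rfl fun r _ => ?_
  have hq : ∑ x ∈ qs p β r, x = ∑ i ∈ univ.filter (fun i => β i % p = r), β i / p := by
    refine Finset.sum_image fun a ha b hb e => hβ ?_
    simp only [Finset.coe_filter, Finset.mem_univ, true_and, Set.mem_setOf_eq] at ha hb
    rw [← Nat.div_add_mod (β a) p, ← Nat.div_add_mod (β b) p, ha, hb, e]
  have ht := tri_le_sum (qs p β r)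
  rw [card_qs hβ] at ht
  rw [add_assoc, ← Nat.mul_add, Nat.add_sub_cancel' ht, hq, Finset.mul_sum, rc, mul_comm r,
    ← smul_eq_mul (a := (univ.filter fun i => β i % p = r).card), ← Finset.sum_const,
    ← Finset.sum_add_distrib]
  refine Finset.sum_congr rfl fun i hi => ?_
  rw [← (Finset.mem_filter.1 hi).2, Nat.mod_add_div]

/-- The position of an entry among those with its residue. -/
def rank (p : ℕ) (β : Fin m → ℕ) (i : Fin m) : ℕ :=
  (univ.filter fun j => β j % p = β i % p ∧ β j < β i).card

/-- The core of a beta set, entry by entry. -/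
def core (p : ℕ) (β : Fin m → ℕ) (i : Fin m) : ℕ := β i % p + p * rank p β i

theorem core_mod (hp : 0 < p) (i : Fin m) : core p β i % p = β i % p := by
  rw [core, Nat.add_mul_mod_self_left, Nat.mod_mod]

theorem core_div (hp : 0 < p) (i : Fin m) : core p β i / p = rank p β i := by
  rw [core, Nat.add_mul_div_left _ _ hp, Nat.div_eq_of_lt (Nat.mod_lt _ hp), zero_add]

theorem rank_lt_rc (i : Fin m) : rank p β i < rc p β (β i % p) := by
  refine Finset.card_lt_card ⟨fun j hj => ?_, fun hsub => ?_⟩
  · simp only [Finset.mem_filter, Finset.mem_univ, true_and] at hj ⊢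
    exact hj.1
  · have := hsub (Finset.mem_filter.2 ⟨Finset.mem_univ i, rfl⟩)
    simp at this

theorem rank_strict {i j : Fin m} (h : β i % p = β j % p) (hl : β i < β j) :
    rank p β i < rank p β j := by
  refine Finset.card_lt_card ⟨fun k hk => ?_, fun hsub => ?_⟩
  · simp only [Finset.mem_filter, Finset.mem_univ, true_and] at hk ⊢
    exact ⟨hk.1.trans h, hk.2.trans hl⟩
  · have := hsub (Finset.mem_filter.2 ⟨Finset.mem_univ i, h, hl⟩)
    simp at this

theorem rc_core (hp : 0 < p) : rc p (core p β) = rc p β :=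
  funext fun r => congrArg Finset.card (Finset.filter_congr fun i _ => by rw [core_mod hp])

theorem core_injective (hp : 0 < p) (hβ : Function.Injective β) :
    Function.Injective (core p β) := by
  intro i j h
  have h1 : β i % p = β j % p := by rw [← core_mod hp i, h, core_mod hp j]
  have h2 : rank p β i = rank p β j := by rw [← core_div hp i, h, core_div hp j]
  rcases Nat.lt_trichotomy (β i) (β j) with hl | he | hl
  · exact absurd h2 (rank_strict h1 hl).ne
  · exact hβ he
  · exact absurd h2 (rank_strict h1.symm hl).ne'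

theorem qs_core (hp : 0 < p) (hβ : Function.Injective β) (r : ℕ) :
    qs p (core p β) r = range (rc p β r) := by
  refine Finset.eq_of_subset_of_card_le (fun x hx => ?_)
    (by rw [card_qs (core_injective hp hβ), rc_core hp, Finset.card_range])
  simp only [qs, Finset.mem_image, Finset.mem_filter, Finset.mem_univ, true_and] at hx
  obtain ⟨i, hi, rfl⟩ := hx
  rw [core_mod hp] at hi
  rw [Finset.mem_range, core_div hp, ← hi]
  exact rank_lt_rc i

theorem wt_core (hp : 0 < p) (hβ : Function.Injective β) : wt p (core p β) = 0 := by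
  refine Finset.sum_eq_zero fun r _ => ?_
  rw [qs_core hp hβ, rc_core hp, ← tri_eq_sum_range, Nat.sub_self]

theorem sum_core (hp : 0 < p) (hβ : Function.Injective β) :
    ∑ i, core p β i + p * wt p β = ∑ i, β i := by
  rw [sum_eq_coreSum_add hp hβ, sum_eq_coreSum_add hp (core_injective hp hβ), wt_core hp hβ,
    rc_core hp, mul_zero, add_zero]

/-- A beta set with the residues and the sum of a core is a rearrangement of it. -/
theorem exists_perm_core (hp : 0 < p) (hβ : Function.Injective β) (hγ : Function.Injective γ)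
    (hr : rc p γ = rc p β) (hs : ∑ i, γ i = ∑ i, core p β i) :
    ∃ σ : Equiv.Perm (Fin m), γ = core p β ∘ σ := by
  have hw : wt p γ = 0 := by
    rw [sum_eq_coreSum_add hp hγ, sum_eq_coreSum_add hp (core_injective hp hβ), wt_core hp hβ,
      rc_core hp, hr, mul_zero, add_zero] at hs
    rcases Nat.mul_eq_zero.1 (show p * wt p γ = 0 by omega) with h | h
    · omega
    · exact h
  have hq : ∀ r < p, qs p γ r = range (rc p β r) := by
    intro r hrp
    have h := (Finset.sum_eq_zero_iff.1 hw) r (Finset.mem_range.2 hrp)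
    have ht := tri_le_sum (qs p γ r)
    rw [card_qs hγ] at ht
    rw [eq_range_of_sum_eq (S := qs p γ r) (by rw [card_qs hγ]; omega), card_qs hγ, hr]
  have hmem : ∀ i, ∃ j, core p β j = γ i := by
    intro i
    have h1 : γ i / p ∈ qs p γ (γ i % p) :=
      Finset.mem_image.2 ⟨i, Finset.mem_filter.2 ⟨Finset.mem_univ _, rfl⟩, rfl⟩
    rw [hq _ (Nat.mod_lt _ hp), ← qs_core hp hβ] at h1
    simp only [qs, Finset.mem_image, Finset.mem_filter, Finset.mem_univ, true_and] at h1
    obtain ⟨j, hj, hj'⟩ := h1
    exact ⟨j, by rw [← Nat.div_add_mod (core p β j) p, hj, hj', Nat.div_add_mod]⟩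
  choose σ hσ using hmem
  have hinj : Function.Injective σ := fun a b h => hγ (by rw [← hσ, h, hσ])
  exact ⟨Equiv.ofBijective σ hinj.bijective_of_finite, funext fun i => (hσ i).symm⟩

/-- Sets of `k` naturals exceeding the least possible sum by `w`. -/
def qset (k w : ℕ) : Finset (Finset ℕ) :=
  ((range (tri k + w + 1)).powersetCard k).filter fun S => ∑ x ∈ S, x = tri k + w

theorem mem_qset {k w : ℕ} {S : Finset ℕ} : S ∈ qset k w ↔ S.card = k ∧ ∑ x ∈ S, x = tri k + w := by
  simp only [qset, Finset.mem_filter, Finset.mem_powersetCard]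
  refine ⟨fun h => ⟨h.1.2, h.2⟩, fun h => ⟨⟨fun x hx => ?_, h.1⟩, h.2⟩⟩
  have := Finset.single_le_sum (f := fun x : ℕ => x) (fun _ _ => Nat.zero_le _) hx
  rw [Finset.mem_range]
  omega

theorem card_qset_le (k w : ℕ) : (qset k w).card ≤ pa k w := by
  suffices H : ∀ N k w, k + w ≤ N → (qset k w).card ≤ pa k w from H _ k w le_rfl
  intro N
  induction N with
  | zero =>
    intro k w h
    obtain ⟨rfl, rfl⟩ : k = 0 ∧ w = 0 := by omega
    decide
  | succ N ih =>
    intro k w h
    rcases k with - | k
    · rcases Nat.eq_zero_or_pos w with rfl | hw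
      · decide
      · have : qset 0 w = ∅ := Finset.eq_empty_of_forall_notMem fun S hS => by
          obtain ⟨h1, h2⟩ := mem_qset.1 hS
          rw [Finset.card_eq_zero] at h1
          subst h1
          simp [tri] at h2
          omega
        simp [this]
    rw [← Finset.card_filter_add_card_filter_not (fun S => 0 ∈ S) (s := qset (k + 1) w)]
    have pos_of : ∀ {S : Finset ℕ}, 0 ∉ S → ∀ x ∈ S, 0 < x := fun h0 x hx =>
      Nat.pos_of_ne_zero fun e => h0 (e ▸ hx)
    have hpred : ∀ {S : Finset ℕ}, 0 ∉ S → (S.image fun x => x - 1).card = S.card ∧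
        ∑ x ∈ S.image (fun x => x - 1), x + S.card = ∑ x ∈ S, x ∧
        (S.image fun x => x - 1).image (· + 1) = S := by
      intro S h0
      have hinj : Set.InjOn (fun x => x - 1) (S : Set ℕ) := fun a ha b hb e => by
        have := pos_of h0 a ha
        have := pos_of h0 b hb
        simp only at e
        omega
      refine ⟨Finset.card_image_of_injOn hinj, ?_, ?_⟩
      · rw [Finset.sum_image hinj, Finset.card_eq_sum_ones, ← Finset.sum_add_distrib]
        exact Finset.sum_congr rfl fun x hx => by have := pos_of h0 x hx; omega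
      · rw [Finset.image_image]
        conv_rhs => rw [← Finset.image_id (s := S)]
        exact Finset.image_congr fun x hx => by
          have := pos_of h0 x hx
          simp only [Function.comp_apply, id]
          omega
    have h1 : ((qset (k + 1) w).filter fun S => 0 ∈ S).card ≤ pa k w := by
      refine le_trans (Finset.card_le_card_of_injOn (fun S => (S.erase 0).image fun x => x - 1)
        (fun S hS => ?_) (fun S hS T hT e => ?_)) (ih k w (by omega))
      · obtain ⟨hS', h0⟩ := Finset.mem_filter.1 hS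
        obtain ⟨hc, hs⟩ := mem_qset.1 hS'
        obtain ⟨e1, e2, -⟩ := hpred (Finset.notMem_erase 0 S)
        rw [Finset.sum_erase _ (by rfl)] at e2
        rw [Finset.card_erase_of_mem h0, hc] at e1 e2
        refine mem_qset.2 ⟨by simpa using e1, ?_⟩
        have := tri_succ k
        dsimp only
        omega
      · have hS0 := (Finset.mem_filter.1 hS).2
        have hT0 := (Finset.mem_filter.1 hT).2
        rw [← Finset.insert_erase hS0, ← Finset.insert_erase hT0,
          ← (hpred (Finset.notMem_erase 0 S)).2.2, ← (hpred (Finset.notMem_erase 0 T)).2.2]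
        exact congrArg _ (congrArg _ e)
    rcases Nat.lt_or_ge w (k + 1) with hlt | hge
    · rw [pa_succ_of_lt hlt]
      have h2 : ((qset (k + 1) w).filter fun S => ¬ 0 ∈ S) = ∅ :=
        Finset.eq_empty_of_forall_notMem fun S hS => by
          obtain ⟨hS', h0⟩ := Finset.mem_filter.1 hS
          obtain ⟨hc, hs⟩ := mem_qset.1 hS'
          obtain ⟨e1, e2, -⟩ := hpred h0
          have := tri_le_sum (S.image fun x => x - 1)
          rw [e1, hc] at this
          omega
      rw [h2]
      simpa using h1
    · rw [pa_succ_of_le hge]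
      refine Nat.add_le_add h1 (le_trans (Finset.card_le_card_of_injOn
        (fun S => S.image fun x => x - 1) (fun S hS => ?_) (fun S hS T hT e => ?_))
        (ih (k + 1) (w - (k + 1)) (by omega)))
      · obtain ⟨hS', h0⟩ := Finset.mem_filter.1 hS
        obtain ⟨hc, hs⟩ := mem_qset.1 hS'
        obtain ⟨e1, e2, -⟩ := hpred h0
        have := tri_succ k
        exact mem_qset.2 ⟨e1.trans hc, by dsimp only; omega⟩
      · rw [← (hpred (Finset.mem_filter.1 hS).2).2.2, ← (hpred (Finset.mem_filter.1 hT).2).2.2]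
        exact congrArg _ e

/-- Tuples of sets with given cardinalities and total excess. -/
def qtup : (p : ℕ) → (Fin p → ℕ) → ℕ → Finset (Fin p → Finset ℕ)
  | 0, _, w => if w = 0 then univ else ∅
  | p + 1, k, w => (range (w + 1)).biUnion fun j =>
      ((qset (k 0) j) ×ˢ qtup p (fun i => k i.succ) (w - j)).image fun q => Fin.cons q.1 q.2

theorem card_qtup_le : ∀ (p : ℕ) (k : Fin p → ℕ) (w : ℕ), (qtup p k w).card ≤ kk p w
  | 0, k, w => by
    simp only [qtup, kk]
    split_ifs <;> simp
  | p + 1, k, w => by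
    simp only [qtup, kk]
    refine Finset.card_biUnion_le.trans (Finset.sum_le_sum fun j _ => ?_)
    refine Finset.card_image_le.trans ?_
    rw [Finset.card_product]
    exact Nat.mul_le_mul ((card_qset_le _ _).trans (pa_le_pn _ _)) (card_qtup_le p _ _)

theorem mem_qtup : ∀ {p : ℕ} {k : Fin p → ℕ} {w : ℕ} {F : Fin p → Finset ℕ},
    (∀ r, (F r).card = k r) → ∑ r, (∑ x ∈ F r, x - tri (k r)) = w → F ∈ qtup p k w
  | 0, k, w, F, _, h => by
    have hw : w = 0 := by rw [← h]; simp
    simp [qtup, hw, eq_iff_true_of_subsingleton]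
  | p + 1, k, w, F, hc, h => by
    rw [Fin.sum_univ_succ] at h
    have h0 := tri_le_sum (F 0)
    rw [hc] at h0
    simp only [qtup, Finset.mem_biUnion, Finset.mem_image, Finset.mem_product, Finset.mem_range]
    refine ⟨∑ x ∈ F 0, x - tri (k 0), by omega, ⟨F 0, fun i => F i.succ⟩, ⟨?_, ?_⟩, ?_⟩
    · exact mem_qset.2 ⟨hc 0, by dsimp only; omega⟩
    · exact mem_qtup (fun r => hc r.succ) (by dsimp only; omega)
    · exact Fin.cons_self_tail F

/-- The beta sets with given residues and sum are at most `kk p w` in number. -/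
theorem card_class_le (hp : 0 < p) {S : Set (Fin m → ℕ)} (hβ : Function.Injective β)
    (hS : ∀ γ ∈ S, StrictMono γ ∧ rc p γ = rc p β ∧ ∑ i, γ i = ∑ i, β i) :
    Nat.card S ≤ kk p (wt p β) := by
  classical
  refine le_trans ?_ (card_qtup_le p (fun r : Fin p => rc p β r) (wt p β))
  have hw : ∀ γ : S, wt p γ.1 = wt p β := by
    intro γ
    obtain ⟨hs, hr, he⟩ := hS γ.1 γ.2
    rw [sum_eq_coreSum_add hp hs.injective, sum_eq_coreSum_add hp hβ, hr] at he
    exact Nat.eq_of_mul_eq_mul_left hp (Nat.add_left_cancel he)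
  have hmem : ∀ γ : S, (fun r : Fin p => qs p γ.1 r) ∈ qtup p (fun r : Fin p => rc p β r) (wt p β) := by
    intro γ
    obtain ⟨hs, hr, -⟩ := hS γ.1 γ.2
    refine mem_qtup (fun r => by rw [card_qs hs.injective, hr]) ?_
    rw [← hw γ, wt, hr, ← Fin.sum_univ_eq_sum_range]
  rw [← Nat.card_eq_finsetCard]
  refine Nat.card_le_card_of_injective (fun γ : S => ⟨_, hmem γ⟩) fun γ δ e => Subtype.ext ?_
  have e' : ∀ r : Fin p, qs p γ.1 r = qs p δ.1 r := congrFun (congrArg Subtype.val e)
  refine (StrictMono.range_inj (hS γ.1 γ.2).1 (hS δ.1 δ.2).1).1 (Set.ext fun x => ?_)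
  have key : ∀ ξ : Fin m → ℕ, x ∈ Set.range ξ ↔ x / p ∈ qs p ξ (x % p) := by
    intro ξ
    simp only [Set.mem_range, qs, Finset.mem_image, Finset.mem_filter, Finset.mem_univ, true_and]
    exact ⟨fun ⟨i, hi⟩ => ⟨i, by rw [hi], by rw [hi]⟩,
      fun ⟨i, h1, h2⟩ => ⟨i, by rw [← Nat.div_add_mod (ξ i) p, h1, h2, Nat.div_add_mod]⟩⟩
  rw [key, key, e' ⟨x % p, Nat.mod_lt _ hp⟩]

end CfsgLib.SymBlock
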