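import Cfsg.Agent.Lib.SymBlock.Weight
import Mathlib.GroupTheory.Sylow

/-!
The normal `p`-subgroups of the centralizer of a product of `p`-cycles that the block count needs.
-/

set_option autoImplicit false
set_option linter.unusedSectionVars false

namespace CfsgLib.SymBlock

open Finset

variable {Ω : Type} [Fintype Ω] [DecidableEq Ω] {p W k : ℕ}

theorem centralizer_apply {y : Equiv.Perm Ω}
    (h : Subgroup.centralizer ({y} : Set (Equiv.Perm Ω))) (j : ℕ) (a : Ω) :
    (h : Equiv.Perm Ω) ((y ^ j) a) = (y ^ j) ((h : Equiv.Perm Ω) a) := by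
  have hc : Commute (h : Equiv.Perm Ω) y := Subgroup.mem_centralizer_singleton_iff.1 h.2
  rw [← Equiv.Perm.mul_apply, (hc.pow_right j).eq, Equiv.Perm.mul_apply]

/-- The elements of the centralizer stabilising every orbit. -/
def orbSub (y : Equiv.Perm Ω) (hp : 0 < p) (hy : y ^ p = 1) :
    Subgroup (Subgroup.centralizer ({y} : Set (Equiv.Perm Ω))) where
  carrier := {h | ∀ a, ∃ j : ℕ, (h : Equiv.Perm Ω) a = (y ^ j) a}
  one_mem' a := ⟨0, by simp⟩
  mul_mem' := by
    intro g h hg hh a
    obtain ⟨j, hj⟩ := hh a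
    obtain ⟨i, hi⟩ := hg a
    exact ⟨j + i, by
      rw [Subgroup.coe_mul, Equiv.Perm.mul_apply, hj, centralizer_apply, hi, pow_add,
        Equiv.Perm.mul_apply]⟩
  inv_mem' := by
    intro g hg a
    obtain ⟨j, hj⟩ := hg ((g : Equiv.Perm Ω)⁻¹ a)
    refine ⟨(p - 1) * j, ?_⟩
    have e : (g : Equiv.Perm Ω) ((g : Equiv.Perm Ω)⁻¹ a) = a := by simp
    rw [e] at hj
    rw [Subgroup.coe_inv]
    conv_rhs => rw [hj, ← Equiv.Perm.mul_apply, ← pow_add]
    rw [show (p - 1) * j + j = p * j by rw [← Nat.succ_mul]; congr 1; omega, pow_mul, hy, one_pow,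
      Equiv.Perm.one_apply]

theorem mem_orbSub {y : Equiv.Perm Ω} {hp : 0 < p} {hy : y ^ p = 1}
    {h : Subgroup.centralizer ({y} : Set (Equiv.Perm Ω))} :
    h ∈ orbSub y hp hy ↔ ∀ a, ∃ j : ℕ, (h : Equiv.Perm Ω) a = (y ^ j) a := Iff.rfl

theorem orbSub_comm {y : Equiv.Perm Ω} {hp : 0 < p} {hy : y ^ p = 1}
    {g h : Subgroup.centralizer ({y} : Set (Equiv.Perm Ω))} (hg : g ∈ orbSub y hp hy)
    (hh : h ∈ orbSub y hp hy) : g * h = h * g := by
  refine Subtype.ext (Equiv.ext fun a => ?_)
  obtain ⟨i, hi⟩ := hg a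
  obtain ⟨j, hj⟩ := hh a
  simp only [Subgroup.coe_mul, Equiv.Perm.mul_apply]
  rw [hj, hi, centralizer_apply, centralizer_apply, hi, hj, ← Equiv.Perm.mul_apply,
    ← Equiv.Perm.mul_apply, ← pow_add, ← pow_add, add_comm]

theorem orbSub_pow {y : Equiv.Perm Ω} {hp : 0 < p} {hy : y ^ p = 1}
    {h : Subgroup.centralizer ({y} : Set (Equiv.Perm Ω))} (hh : h ∈ orbSub y hp hy) : h ^ p = 1 := by
  refine Subtype.ext (Equiv.ext fun a => ?_)
  obtain ⟨j, hj⟩ := hh a
  have key : ∀ i : ℕ, ((h : Equiv.Perm Ω) ^ i) a = (y ^ (i * j)) a := by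
    intro i
    induction i with
    | zero => simp
    | succ l ih =>
      rw [pow_succ', Equiv.Perm.mul_apply, ih, centralizer_apply, hj, ← Equiv.Perm.mul_apply,
        ← pow_add, Nat.succ_mul]
  rw [Subgroup.coe_pow, key, pow_mul, hy, one_pow, Subgroup.coe_one]

instance (y : Equiv.Perm Ω) (hp : 0 < p) (hy : y ^ p = 1) : (orbSub y hp hy).Normal where
  conj_mem h hh g a := by
    obtain ⟨j, hj⟩ := hh ((g : Equiv.Perm Ω)⁻¹ a)
    refine ⟨j, ?_⟩
    simp only [Subgroup.coe_mul, Subgroup.coe_inv, Equiv.Perm.mul_apply]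
    rw [hj, centralizer_apply]
    simp

theorem orbSub_isPGroup {y : Equiv.Perm Ω} {hp : 0 < p} {hy : y ^ p = 1} :
    IsPGroup p (orbSub y hp hy) := fun h => ⟨1, by
  rw [pow_one]
  exact Subtype.ext (orbSub_pow h.2)⟩

/-- A permutation of the moved points, read on the whole set. -/
def lift (e : Ω ≃ (Fin W × Fin p) ⊕ Fin k) : Equiv.Perm (Fin W × Fin p) →* Equiv.Perm Ω where
  toFun σ := e.symm.permCongr (Equiv.Perm.sumCongr σ 1)
  map_one' := Equiv.ext fun x => by
    rw [Equiv.permCongr_apply, Equiv.symm_symm]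
    rcases h : e x with q | q <;> simp [Equiv.symm_apply_eq, h]
  map_mul' σ τ := Equiv.ext fun x => by
    simp only [Equiv.Perm.mul_apply, Equiv.permCongr_apply, Equiv.symm_symm, Equiv.apply_symm_apply]
    rcases e x with q | q <;> simp

theorem lift_inl (e : Ω ≃ (Fin W × Fin p) ⊕ Fin k) (σ : Equiv.Perm (Fin W × Fin p))
    (q : Fin W × Fin p) : lift e σ (e.symm (Sum.inl q)) = e.symm (Sum.inl (σ q)) := by
  simp [lift]

theorem lift_inr (e : Ω ≃ (Fin W × Fin p) ⊕ Fin k) (σ : Equiv.Perm (Fin W × Fin p))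
    (q : Fin k) : lift e σ (e.symm (Sum.inr q)) = e.symm (Sum.inr q) := by
  simp [lift]

theorem lift_injective (e : Ω ≃ (Fin W × Fin p) ⊕ Fin k) : Function.Injective (lift e) := by
  intro σ τ h
  refine Equiv.ext fun q => ?_
  have := congrArg (fun g : Equiv.Perm Ω => g (e.symm (Sum.inl q))) h
  simp only [lift_inl] at this
  exact Sum.inl_injective (e.symm.injective this)

theorem forall_split (e : Ω ≃ (Fin W × Fin p) ⊕ Fin k) {P : Ω → Prop}
    (h1 : ∀ q, P (e.symm (Sum.inl q))) (h2 : ∀ q, P (e.symm (Sum.inr q))) (x : Ω) : P x := by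
  rw [← e.symm_apply_apply x]
  rcases e x with q | q
  · exact h1 q
  · exact h2 q

section

open Fin.NatCast

variable [NeZero p]

/-- Independent powers of the cycles. -/
def shift (t : Fin W → Fin p) : Equiv.Perm (Fin W × Fin p) :=
  Equiv.prodShear (Equiv.refl (Fin W)) fun a => Equiv.addRight (t a)

theorem shift_apply (t : Fin W → Fin p) (q : Fin W × Fin p) : shift t q = (q.1, q.2 + t q.1) := rfl

theorem cyc_pow_apply (j : ℕ) (q : Fin W × Fin p) : (cyc W p ^ j) q = (q.1, q.2 + (j : Fin p)) := by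
  induction j with
  | zero => simp
  | succ l ih =>
    rw [pow_succ', Equiv.Perm.mul_apply, ih, Nat.cast_succ]
    show (q.1, q.2 + (l : Fin p) + 1) = _
    rw [add_assoc]

theorem shift_injective : Function.Injective (shift : (Fin W → Fin p) → _) := by
  intro t t' h
  funext a
  have := congrArg (fun g : Equiv.Perm (Fin W × Fin p) => (g (a, 0)).2) h
  simpa [shift_apply] using this

theorem cyc_pow_prime : cyc W p ^ p = 1 := by
  refine Equiv.ext fun q => ?_
  rw [cyc_pow_apply]
  simp

theorem lift_cyc_pow (e : Ω ≃ (Fin W × Fin p) ⊕ Fin k) : lift e (cyc W p) ^ p = 1 := by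
  rw [← map_pow, cyc_pow_prime, map_one]

theorem lift_mem_centralizer (e : Ω ≃ (Fin W × Fin p) ⊕ Fin k) {σ : Equiv.Perm (Fin W × Fin p)}
    (h : σ * cyc W p = cyc W p * σ) :
    lift e σ ∈ Subgroup.centralizer ({lift e (cyc W p)} : Set (Equiv.Perm Ω)) :=
  Subgroup.mem_centralizer_singleton_iff.2 (by rw [← map_mul, h, map_mul])

theorem shift_comm_cyc (t : Fin W → Fin p) : shift t * cyc W p = cyc W p * shift t := by
  refine Equiv.ext fun q => ?_
  show (q.1, q.2 + 1 + t q.1) = (q.1, q.2 + t q.1 + 1)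
  rw [add_right_comm]

theorem lift_shift_mem (e : Ω ≃ (Fin W × Fin p) ⊕ Fin k) (t : Fin W → Fin p) :
    lift e (shift t) ∈ (orbSub (lift e (cyc W p)) (Nat.pos_of_ne_zero (NeZero.ne p))
      (lift_cyc_pow e)).map (Subgroup.centralizer ({lift e (cyc W p)} : Set (Equiv.Perm Ω))).subtype := by
  refine ⟨⟨_, lift_mem_centralizer e (shift_comm_cyc t)⟩, ?_, rfl⟩
  intro x
  refine forall_split e (P := fun x => ∃ j : ℕ, lift e (shift t) x = (lift e (cyc W p) ^ j) x)
    (fun q => ⟨(t q.1).val, ?_⟩) (fun q => ⟨0, by simp [lift_inr]⟩) x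
  rw [← map_pow, lift_inl, lift_inl, cyc_pow_apply, shift_apply, Fin.cast_val_eq_self]

theorem pow_le_card_orbSub (e : Ω ≃ (Fin W × Fin p) ⊕ Fin k) :
    p ^ W ≤ Nat.card ((orbSub (lift e (cyc W p)) (Nat.pos_of_ne_zero (NeZero.ne p))
      (lift_cyc_pow e)).map
        (Subgroup.centralizer ({lift e (cyc W p)} : Set (Equiv.Perm Ω))).subtype) := by
  have h := Nat.card_le_card_of_injective
    (fun t : Fin W → Fin p => (⟨_, lift_shift_mem e t⟩ :
      (orbSub (lift e (cyc W p)) (Nat.pos_of_ne_zero (NeZero.ne p)) (lift_cyc_pow e)).map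
        (Subgroup.centralizer ({lift e (cyc W p)} : Set (Equiv.Perm Ω))).subtype))
    fun t t' htt => shift_injective (lift_injective e (congrArg Subtype.val htt))
  simpa using h

theorem card_moved_lift (e : Ω ≃ (Fin W × Fin p) ⊕ Fin k) (t : Fin W → Fin p) :
    (univ.filter fun x => lift e (shift t) x ≠ x).card = (univ.filter fun a => t a ≠ 0).card * p := by
  have h : (univ.filter fun x => lift e (shift t) x ≠ x) =
      ((univ.filter fun a => t a ≠ 0) ×ˢ (univ : Finset (Fin p))).image fun q => e.symm (Sum.inl q) := by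
    ext x
    revert x
    refine forall_split e (fun q => ?_) (fun q => ?_)
    · simp [lift_inl, shift_apply, Prod.ext_iff]
    · simp [lift_inr]
  rw [h, Finset.card_image_of_injective _ fun a b hab => Sum.inl_injective (e.symm.injective hab)]
  simp

end

theorem card_moved_conj (g c : Equiv.Perm Ω) :
    (univ.filter fun x => (c * g * c⁻¹) x ≠ x).card = (univ.filter fun x => g x ≠ x).card := by
  refine Finset.card_equiv c⁻¹ fun x => ?_
  rw [Finset.mem_filter, Finset.mem_filter]
  simp only [Finset.mem_univ, true_and, Equiv.Perm.mul_apply, ne_eq]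
  refine not_congr ?_
  constructor
  · intro h; simpa using congrArg (⇑c⁻¹) h
  · intro h; rw [h]; simp

/-- The index of the cycle of a moved point. -/
def blk (e : Ω ≃ (Fin W × Fin p) ⊕ Fin k) (x : Ω) : Option (Fin W) :=
  Sum.elim (fun q => some q.1) (fun _ => none) (e x)

theorem blk_pow (e : Ω ≃ (Fin W × Fin p) ⊕ Fin k) [NeZero p] (j : ℕ) (x : Ω) :
    blk e ((lift e (cyc W p) ^ j) x) = blk e x := by
  rw [← map_pow]
  refine forall_split e (P := fun x => blk e (lift e (cyc W p ^ j) x) = blk e x) (fun q => ?_)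
    (fun q => ?_) x
  · rw [lift_inl, cyc_pow_apply]; simp [blk]
  · rw [lift_inr]

theorem blk_eq_none_iff (e : Ω ≃ (Fin W × Fin p) ⊕ Fin k) [NeZero p] (hp1 : 1 < p) (x : Ω) :
    blk e x = none ↔ lift e (cyc W p) x = x := by
  refine forall_split e (P := fun x => blk e x = none ↔ lift e (cyc W p) x = x) (fun q => ?_)
    (fun q => ?_) x
  · rw [lift_inl]
    simp only [blk, Equiv.apply_symm_apply, Sum.elim_inl, reduceCtorEq, false_iff]
    intro h
    have h1 : q.2 + 1 = q.2 := congrArg Prod.snd (Sum.inl_injective (e.symm.injective h))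
    have h2 : (1 : Fin p) = 0 := by simpa using h1
    have h3 := congrArg Fin.val h2
    simp [Fin.val_one', Nat.one_mod_eq_one.2 hp1.ne'] at h3
  · simp [blk, lift_inr]

section

variable [NeZero p] (e : Ω ≃ (Fin W × Fin p) ⊕ Fin k)

/-- The action on the cycles. -/
noncomputable def actFun (h : Subgroup.centralizer ({lift e (cyc W p)} : Set (Equiv.Perm Ω)))
    (a : Fin W) : Fin W :=
  (blk e ((h : Equiv.Perm Ω) (e.symm (Sum.inl (a, 0))))).getD a

open Fin.NatCast in
theorem blk_apply (hp1 : 1 < p)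
    (h : Subgroup.centralizer ({lift e (cyc W p)} : Set (Equiv.Perm Ω))) (x : Ω) :
    blk e ((h : Equiv.Perm Ω) x) = (blk e x).map (actFun e h) := by
  refine forall_split e (P := fun x => blk e ((h : Equiv.Perm Ω) x) = (blk e x).map (actFun e h))
    (fun q => ?_) (fun q => ?_) x
  · have e1 : e.symm (Sum.inl q) = (lift e (cyc W p) ^ q.2.val) (e.symm (Sum.inl (q.1, 0))) := by
      rw [← map_pow, lift_inl, cyc_pow_apply]
      simp
    have hne : blk e ((h : Equiv.Perm Ω) (e.symm (Sum.inl (q.1, 0)))) ≠ none := by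
      rw [Ne, blk_eq_none_iff e hp1]
      have hc := centralizer_apply h 1 (e.symm (Sum.inl (q.1, 0)))
      rw [pow_one] at hc
      rw [← hc, Equiv.apply_eq_iff_eq, ← blk_eq_none_iff e hp1]
      simp [blk]
    obtain ⟨b, hb⟩ := Option.ne_none_iff_exists'.1 hne
    rw [e1, centralizer_apply, blk_pow, blk_pow, hb,
      show blk e (e.symm (Sum.inl (q.1, (0 : Fin p)))) = some q.1 by simp [blk]]
    show some b = some (actFun e h q.1)
    simp [actFun, hb]
  · have hx : blk e (e.symm (Sum.inr q)) = none := by simp [blk]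
    rw [hx, Option.map_none, blk_eq_none_iff e hp1]
    have hc := centralizer_apply h 1 (e.symm (Sum.inr q))
    rw [pow_one, (blk_eq_none_iff e hp1 _).1 hx] at hc
    exact hc.symm

theorem actFun_mul (hp1 : 1 < p)
    (g h : Subgroup.centralizer ({lift e (cyc W p)} : Set (Equiv.Perm Ω))) (a : Fin W) :
    actFun e (g * h) a = actFun e g (actFun e h a) := by
  have h0 := blk_apply e hp1 (g * h) (e.symm (Sum.inl (a, 0)))
  rw [Subgroup.coe_mul, Equiv.Perm.mul_apply, blk_apply e hp1, blk_apply e hp1] at h0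
  have hx : blk e (e.symm (Sum.inl (a, (0 : Fin p)))) = some a := by simp [blk]
  rw [hx] at h0
  simpa using h0.symm

theorem actFun_one (a : Fin W) : actFun e 1 a = a := by simp [actFun, blk]

/-- The action on the cycles, as a homomorphism. -/
noncomputable def act (hp1 : 1 < p) :
    Subgroup.centralizer ({lift e (cyc W p)} : Set (Equiv.Perm Ω)) →* Equiv.Perm (Fin W) where
  toFun h := ⟨actFun e h, actFun e h⁻¹,
    fun a => by rw [← actFun_mul e hp1, inv_mul_cancel, actFun_one],
    fun a => by rw [← actFun_mul e hp1, mul_inv_cancel, actFun_one]⟩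
  map_one' := Equiv.ext (actFun_one e)
  map_mul' g h := Equiv.ext (actFun_mul e hp1 g h)

theorem blk_act (hp1 : 1 < p)
    (h : Subgroup.centralizer ({lift e (cyc W p)} : Set (Equiv.Perm Ω))) (x : Ω) :
    blk e ((h : Equiv.Perm Ω) x) = (blk e x).map (act e hp1 h) := blk_apply e hp1 h x

end

/-- The regular four-group on four letters. -/
def fourSet : Finset (Equiv.Perm (Fin 4)) :=
  univ.filter fun σ => (∀ i, σ (σ i) = i) ∧ ((∀ i, σ i = i) ∨ ∀ i, σ i ≠ i)

theorem fourSet_mul : ∀ σ τ : Equiv.Perm (Fin 4), σ ∈ fourSet → τ ∈ fourSet → σ * τ ∈ fourSet := by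
  decide +kernel

theorem fourSet_conj (g σ : Equiv.Perm (Fin 4)) (h : σ ∈ fourSet) : g * σ * g⁻¹ ∈ fourSet := by
  simp only [fourSet, Finset.mem_filter, Finset.mem_univ, true_and, Equiv.Perm.mul_apply] at h ⊢
  refine ⟨fun i => by simp [h.1], h.2.imp (fun h' i => by simp [h']) fun h' i hi => h' (g⁻¹ i) ?_⟩
  simpa using congrArg (⇑g⁻¹) hi

variable (e : Ω ≃ (Fin 4 × Fin 2) ⊕ Fin k)

/-- The preimage of the regular four-group, acting trivially off the cycles. -/
noncomputable def fourSub :
    Subgroup (Subgroup.centralizer ({lift e (cyc 4 2)} : Set (Equiv.Perm Ω))) where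
  carrier := {h | (∀ x, blk e x = none → (h : Equiv.Perm Ω) x = x) ∧ act e one_lt_two h ∈ fourSet}
  one_mem' := ⟨fun x _ => rfl, by rw [map_one]; decide +kernel⟩
  mul_mem' := by
    rintro g h ⟨g1, g2⟩ ⟨h1, h2⟩
    refine ⟨fun x hx => ?_, by rw [map_mul]; exact fourSet_mul _ _ g2 h2⟩
    rw [Subgroup.coe_mul, Equiv.Perm.mul_apply, h1 x hx, g1 x hx]
  inv_mem' := by
    rintro g ⟨g1, g2⟩
    refine ⟨fun x hx => ?_, ?_⟩
    · rw [Subgroup.coe_inv, Equiv.Perm.inv_eq_iff_eq]
      exact (g1 x hx).symm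
    · rw [map_inv]
      have : act e one_lt_two g * act e one_lt_two g = 1 :=
        Equiv.ext (Finset.mem_filter.1 g2).2.1
      rwa [inv_eq_of_mul_eq_one_right this]

instance : (fourSub e).Normal where
  conj_mem h hh g := by
    refine ⟨fun x hx => ?_, by rw [map_mul, map_mul, map_inv]; exact fourSet_conj _ _ hh.2⟩
    have hx' : blk e (((g⁻¹ : Subgroup.centralizer ({lift e (cyc 4 2)} : Set (Equiv.Perm Ω))) : Equiv.Perm Ω) x) = none := by
      rw [blk_act e one_lt_two, hx]
      rfl
    simp only [Subgroup.coe_mul, Equiv.Perm.mul_apply]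
    rw [hh.1 _ hx']
    simp

theorem fourSub_isPGroup : IsPGroup 2 (fourSub e) := by
  intro h
  refine ⟨2, Subtype.ext ?_⟩
  have hmem : (h : Subgroup.centralizer ({lift e (cyc 4 2)} : Set (Equiv.Perm Ω))) ^ 2 ∈
      orbSub (lift e (cyc 4 2)) two_pos (lift_cyc_pow e) := by
    set g := (h : Subgroup.centralizer ({lift e (cyc 4 2)} : Set (Equiv.Perm Ω))) ^ 2
    intro x
    have ha : act e one_lt_two g = 1 := by
      rw [map_pow, pow_two]
      exact Equiv.ext (Finset.mem_filter.1 h.2.2).2.1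
    rcases hx : blk e x with - | a
    · refine ⟨0, ?_⟩
      have h1 := h.2.1 x hx
      simp [g, pow_two, h1]
    · have hgx : blk e ((g : Equiv.Perm Ω) x) = some a := by
        rw [blk_act e one_lt_two, hx, ha]; rfl
      revert hx hgx
      generalize (g : Equiv.Perm Ω) x = z
      refine forall_split e (P := fun x => blk e x = some a → blk e z = some a →
        ∃ j : ℕ, z = (lift e (cyc 4 2) ^ j) x) (fun q => ?_) (fun q => ?_) x
      · refine forall_split e (P := fun z => blk e (e.symm (Sum.inl q)) = some a → blk e z = some a →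
          ∃ j : ℕ, z = (lift e (cyc 4 2) ^ j) (e.symm (Sum.inl q))) (fun r => ?_) (fun r => ?_) z
        · intro h1 h2
          simp only [blk, Equiv.apply_symm_apply, Sum.elim_inl, Option.some.injEq] at h1 h2
          refine ⟨(r.2 - q.2).val, ?_⟩
          rw [← map_pow, lift_inl, cyc_pow_apply]
          refine congrArg (fun u => e.symm (Sum.inl u)) (Prod.ext (h2.trans h1.symm) ?_)
          open Fin.NatCast in simp
        · intro _ h2
          simp [blk] at h2
      · intro h1
        simp [blk] at h1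
  have := orbSub_pow hmem
  rw [← pow_mul] at this
  exact this

/-- An element of order four over four two-cycles. -/
def tauFour : Equiv.Perm (Fin 4 × Fin 2) :=
  Equiv.swap ((0 : Fin 4), (0 : Fin 2)) (1, 1) * Equiv.swap (2, 0) (3, 0) * Equiv.swap (2, 1) (3, 1) *
    Equiv.swap (0, 1) (1, 0) * Equiv.swap (0, 0) (0, 1)

theorem tauFour_comm : tauFour * cyc 4 2 = cyc 4 2 * tauFour := by decide +kernel

theorem tauFour_sq : tauFour * tauFour ≠ 1 := by decide +kernel

theorem lift_tauFour_mem : lift e tauFour ∈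
    (fourSub e).map (Subgroup.centralizer ({lift e (cyc 4 2)} : Set (Equiv.Perm Ω))).subtype := by
  refine ⟨⟨_, lift_mem_centralizer e tauFour_comm⟩, ⟨fun x => ?_, ?_⟩, rfl⟩
  · refine forall_split e (P := fun x => blk e x = none → lift e tauFour x = x) (fun q => ?_)
      (fun q _ => lift_inr e _ q) x
    intro h
    simp [blk] at h
  · have hval : ∀ a : Fin 4, act e one_lt_two ⟨_, lift_mem_centralizer e tauFour_comm⟩ a =
        (tauFour (a, 0)).1 := fun a => by
      show (blk e (lift e tauFour (e.symm (Sum.inl (a, 0))))).getD a = _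
      rw [lift_inl]
      simp [blk]
    simp only [fourSet, Finset.mem_filter, Finset.mem_univ, true_and, hval]
    decide +kernel

theorem lift_shift_mem_four (t : Fin 4 → Fin 2) : lift e (shift t) ∈
    (fourSub e).map (Subgroup.centralizer ({lift e (cyc 4 2)} : Set (Equiv.Perm Ω))).subtype := by
  refine ⟨⟨_, lift_mem_centralizer e (shift_comm_cyc t)⟩, ⟨fun x => ?_, ?_⟩, rfl⟩
  · refine forall_split e (P := fun x => blk e x = none → lift e (shift t) x = x) (fun q => ?_)
      (fun q _ => lift_inr e _ q) x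
    intro h
    simp [blk] at h
  · have hval : ∀ a : Fin 4, act e one_lt_two ⟨_, lift_mem_centralizer e (shift_comm_cyc t)⟩ a = a :=
      fun a => by
        show (blk e (lift e (shift t) (e.symm (Sum.inl (a, 0))))).getD a = _
        rw [lift_inl]
        simp [blk, shift_apply]
    simp only [fourSet, Finset.mem_filter, Finset.mem_univ, true_and, hval]
    exact ⟨fun _ => trivial, Or.inl fun _ => trivial⟩

end CfsgLib.SymBlock
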