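import Cfsg.Agent.Lib.Blocks.RegInt
import Cfsg.Agent.Lib.Blocks.Sections

/-!
A set of characters orthogonal on regular elements to the remaining ones is a union of blocks.
-/

set_option autoImplicit false
set_option linter.unusedSectionVars false

namespace CfsgLib.SymBlock

open Cfsg CfsgLib.CharTheory CfsgLib.Blocks Finset
open scoped ComplexConjugate

universe u

variable {p : ℕ} {M : Ideal AlgInt} {G : Type u} [Group G] [Fintype G]

theorem sum_mul_conj_eq_zero (hp : p.Prime) {U : Set (IrrCharacter G)}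
    (hU : ∀ χ ∈ U, ∀ ψ ∉ U, regS p (χ : G → ℂ) (ψ : G → ℂ) = 0) {h g : G}
    (hh : p ∣ orderOf h) (hg : ¬ p ∣ orderOf g) :
    ∑ χ ∈ bset U, (χ : G → ℂ) h * conj ((χ : G → ℂ) g) = 0 := by
  classical
  set F : G → ℂ := fun x => ∑ χ ∈ bset U, (χ : G → ℂ) h * conj ((χ : G → ℂ) x) with hF
  set R := univ.filter fun x : G => ¬ p ∣ orderOf x with hR
  have hsplit : ∀ x ∈ R, F x = -∑ χ ∈ (bset U)ᶜ, (χ : G → ℂ) h * conj ((χ : G → ℂ) x) := by
    intro x hx
    rw [eq_neg_iff_add_eq_zero, hF, Finset.sum_add_sum_compl, sum_irr_mul_conj, if_neg]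
    intro hc
    obtain ⟨c, hc⟩ := isConj_iff.1 hc
    apply (Finset.mem_filter.1 hx).2
    first
      | (have e := conj_orderOf c h; rw [hc] at e; rwa [e])
      | (have e := conj_orderOf c x; rw [hc] at e; rwa [← e])
  have h0 : ∑ x ∈ R, F x * conj (F x) = 0 := by
    calc ∑ x ∈ R, F x * conj (F x)
        = ∑ x ∈ R, F x * conj (-∑ χ ∈ (bset U)ᶜ, (χ : G → ℂ) h * conj ((χ : G → ℂ) x)) :=
          Finset.sum_congr rfl fun x hx => by rw [hsplit x hx]
      _ = -∑ χ ∈ bset U, ∑ ψ ∈ (bset U)ᶜ,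
          (χ : G → ℂ) h * conj ((ψ : G → ℂ) h) * regS p (ψ : G → ℂ) (χ : G → ℂ) := by
          simp only [hF, map_neg, mul_neg, Finset.sum_neg_distrib]
          simp only [map_sum, Finset.sum_mul_sum]
          rw [Finset.sum_comm]
          refine congrArg Neg.neg (Finset.sum_congr rfl fun χ _ => ?_)
          rw [Finset.sum_comm]
          refine Finset.sum_congr rfl fun ψ _ => ?_
          rw [regS_eq_sum, Finset.mul_sum]
          refine Finset.sum_congr rfl fun x _ => ?_
          rw [map_mul, Complex.conj_conj, irr_conjInv]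
          ring
      _ = 0 := by
          rw [Finset.sum_eq_zero, neg_zero]
          intro χ hχ
          refine Finset.sum_eq_zero fun ψ hψ => ?_
          rw [regS_comm, hU χ (mem_bset.1 hχ) ψ (fun h' => Finset.mem_compl.1 hψ (mem_bset.2 h')),
            mul_zero]
  simp only [Complex.mul_conj, ← Complex.ofReal_sum, Complex.ofReal_eq_zero] at h0
  have := (Finset.sum_eq_zero_iff_of_nonneg fun x _ => Complex.normSq_nonneg _).1 h0 g
    (Finset.mem_filter.2 ⟨Finset.mem_univ _, hg⟩)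
  exact Complex.normSq_eq_zero.1 this

theorem sum_deg_mul_conj_eq (hp : p.Prime) {U : Set (IrrCharacter G)}
    (hU : ∀ χ ∈ U, ∀ ψ ∉ U, regS p (χ : G → ℂ) (ψ : G → ℂ) = 0) (g : G) :
    ∃ z : ℂ, IsIntegral ℤ z ∧ ∑ χ ∈ bset U, (χ : G → ℂ) 1 * conj ((χ : G → ℂ) g) =
      (p ^ (Nat.card G).factorization p : ℕ) * z := by
  classical
  haveI : Fact p.Prime := ⟨hp⟩
  by_cases hg : p ∣ orderOf g
  · refine ⟨0, isIntegral_zero, ?_⟩
    rw [mul_zero]
    have h1 := congrArg conj (sum_mul_conj_eq_zero hp hU hg (g := (1 : G))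
      (by simpa using hp.one_lt.ne'))
    rw [map_sum, map_zero] at h1
    rw [← h1]
    refine Finset.sum_congr rfl fun χ _ => ?_
    rw [map_mul, Complex.conj_conj, mul_comm]
  · obtain ⟨P⟩ : Nonempty (Sylow p G) := inferInstance
    haveI : Fintype (P : Subgroup G) := Fintype.ofFinite _
    have hn : ∀ χ : IrrCharacter G, ∃ k : ℕ,
        ∑ u : (P : Subgroup G), (χ : G → ℂ) (u : G) = (Nat.card (P : Subgroup G) : ℂ) * (k : ℂ) := by
      intro χ
      obtain ⟨k, hk⟩ := classInner_char_nat (isCharacter_restrict (isCharacter_of_irr χ.2) (P : Subgroup G))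
        isCharacter_one
      refine ⟨k, ?_⟩
      rw [← hk, classInner, ← mul_assoc, mul_inv_cancel₀ (Nat.cast_ne_zero.2 Nat.card_pos.ne'),
        one_mul]
      simp
    choose k hk using hn
    refine ⟨∑ χ ∈ bset U, (k χ : ℂ) * conj ((χ : G → ℂ) g), IsIntegral.sum _ fun χ _ =>
      (show IsIntegral ℤ ((k χ : ℕ) : ℂ) by
        simpa using isIntegral_algebraMap (R := ℤ) (A := ℂ) (x := (k χ : ℤ))).mul ?_, ?_⟩
    · exact isIntegral_of_char (isCharacter_conj (isCharacter_of_irr χ.2)) g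
    · have h1 : ∑ u : (P : Subgroup G), ∑ χ ∈ bset U, (χ : G → ℂ) (u : G) * conj ((χ : G → ℂ) g) =
          ∑ χ ∈ bset U, (χ : G → ℂ) 1 * conj ((χ : G → ℂ) g) := by
        rw [Finset.sum_eq_single (1 : (P : Subgroup G))]
        · rfl
        · intro u _ hu
          refine sum_mul_conj_eq_zero hp hU ?_ hg
          obtain ⟨e, he⟩ := P.isPGroup' u
          obtain ⟨i, -, hi⟩ := (Nat.dvd_prime_pow hp).1
            (orderOf_dvd_of_pow_eq_one (congrArg Subtype.val he))
          rw [hi]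
          refine dvd_pow_self p fun h0 => hu (Subtype.ext ?_)
          rw [h0, pow_zero, orderOf_eq_one_iff] at hi
          exact hi
        · simp
      rw [← h1, Finset.sum_comm, ← P.card_eq_multiplicity, Finset.mul_sum]
      refine Finset.sum_congr rfl fun χ _ => ?_
      rw [← Finset.sum_mul, hk, mul_assoc]

/-- Two characters of one block are both inside or both outside such a set. -/
theorem mem_of_sameBlock (hM : IsPModular p M) {U : Set (IrrCharacter G)}
    (hU : ∀ χ ∈ U, ∀ ψ ∉ U, regS p (χ : G → ℂ) (ψ : G → ℂ) = 0) {χ ψ : IrrCharacter G}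
    (h : SameBlock M (χ : G → ℂ) (ψ : G → ℂ)) (hχ : χ ∈ U) : ψ ∈ U := by
  haveI := res_isDomain hM
  have hZ : ind U ∈ Zloc G hM := fun g => by
    rw [cf_ind, blockCoeff, finsum_mem_bset]
    obtain ⟨z, hz, e⟩ := sum_deg_mul_conj_eq hM.1 hU g
    rw [e, ← mul_assoc]
    refine (loc hM).mul_mem ?_ (memRing_of_isIntegral hM hz)
    have hc : Nat.card G = p ^ (Nat.card G).factorization p *
        (Nat.card G / p ^ (Nat.card G).factorization p) :=
      (Nat.ordProj_mul_ordCompl_eq_self _ p).symm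
    have hne : ((p ^ (Nat.card G).factorization p : ℕ) : ℂ) ≠ 0 :=
      Nat.cast_ne_zero.2 (pow_ne_zero _ hM.1.ne_zero)
    rw [show (Nat.card G : ℂ) = ((p ^ (Nat.card G).factorization p : ℕ) : ℂ) *
        ((Nat.card G / p ^ (Nat.card G).factorization p : ℕ) : ℂ) by rw [← Nat.cast_mul, ← hc],
      mul_inv, mul_right_comm, inv_mul_cancel₀ hne, one_mul]
    exact natCast_inv_mem hM (Nat.not_dvd_ordCompl hM.1 Nat.card_pos.ne')
  by_contra hψ
  have := Zloc_res_congr hM hZ h
  rw [ind_of_mem hχ, ind_of_notMem hψ, res_one, res_zero] at this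
  exact one_ne_zero this

end CfsgLib.SymBlock
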