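import Cfsg.Agent.Lib.SymBlock.Cycles
import Cfsg.Agent.Lib.SymBlock.Osima
import Cfsg.Agent.Lib.SymBlock.Blockwise
import Cfsg.Agent.Lib.Blocks.Rank

/-!
The number of characters and the sectional rank of a block of a symmetric group.
-/

set_option autoImplicit false
set_option linter.unusedSectionVars false

namespace CfsgLib.SymBlock

open Cfsg CfsgLib.CharTheory CfsgLib.Blocks Finset
open scoped ComplexConjugate

variable {n p : ℕ} {M : Ideal AlgInt}

theorem regS_smul (a b : ℂ) {G : Type} [Group G] [Fintype G] (f g : G → ℂ) :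
    regS p (a • f) (b • g) = a * b * regS p f g := by
  simp only [regS_eq_sum, Pi.smul_apply, smul_eq_mul, Finset.mul_sum]
  exact Finset.sum_congr rfl fun x _ => by ring

/-- The members of a block share the residues modulo `p`. -/
theorem rc_eq_of_sameBlock (hM : IsPModular p M) {β γ : Adm (Fin n) (Fintype.card (Fin n))}
    (h : SameBlock M (irrOf β : Equiv.Perm (Fin n) → ℂ) (irrOf γ : Equiv.Perm (Fin n) → ℂ)) :
    rc p γ.1 = rc p β.1 := by
  set U : Set (IrrCharacter (Equiv.Perm (Fin n))) :=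
    {ψ | ∃ δ : Adm (Fin n) (Fintype.card (Fin n)), irrOf δ = ψ ∧ rc p δ.1 = rc p β.1}
  have hU : ∀ χ ∈ U, ∀ ψ ∉ U,
      regS p (χ : Equiv.Perm (Fin n) → ℂ) (ψ : Equiv.Perm (Fin n) → ℂ) = 0 := by
    rintro χ ⟨δ, rfl, hδ⟩ ψ hψ
    obtain ⟨η, rfl⟩ := irrOf_surjective ψ
    obtain ⟨a, -, ha⟩ := irrOf_spec δ
    obtain ⟨b, -, hb⟩ := irrOf_spec η
    rw [ha, hb, regS_smul,
      regS_chi_eq_zero hM.1 (fun e => hψ ⟨η, rfl, e.symm.trans hδ⟩), mul_zero]
  obtain ⟨δ, hδ, e⟩ := mem_of_sameBlock hM hU h ⟨β, rfl, rfl⟩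
  rw [irrOf_injective hδ] at e
  exact e

/-- The number of characters of a block. -/
theorem card_block_le (hM : IsPModular p M) {B : Set (IrrCharacter (Equiv.Perm (Fin n)))}
    (hB : IsPBlock M B) {β : Adm (Fin n) (Fintype.card (Fin n))} (hβ : irrOf β ∈ B) :
    Nat.card B ≤ kk p (wt p β.1) := by
  refine le_trans ?_ (card_class_le hM.1.pos β.2.1.injective
    (S := {γ | StrictMono γ ∧ rc p γ = rc p β.1 ∧ ∑ i, γ i = ∑ i, β.1 i}) fun γ h => h)
  choose f hf using fun χ : B => irrOf_surjective (χ : IrrCharacter (Equiv.Perm (Fin n)))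
  have hr : ∀ χ : B, rc p (f χ).1 = rc p β.1 := fun χ =>
    rc_eq_of_sameBlock hM (by rw [hf]; exact sameBlock_of_mem hM hB hβ χ.2)
  haveI : Finite {γ : Fin (Fintype.card (Fin n)) → ℕ |
      StrictMono γ ∧ rc p γ = rc p β.1 ∧ ∑ i, γ i = ∑ i, β.1 i} := by
    refine (Set.Finite.subset (Set.Finite.pi fun _ => Set.finite_le_nat (∑ i, β.1 i)) ?_).to_subtype
    intro γ hγ i _
    exact (Finset.single_le_sum (fun _ _ => Nat.zero_le _) (Finset.mem_univ i)).trans hγ.2.2.le
  exact Nat.card_le_card_of_injective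
    (fun χ : B => (⟨(f χ).1, (f χ).2.1, hr χ, (f χ).2.2.trans β.2.2.symm⟩ :
      {γ : Fin (Fintype.card (Fin n)) → ℕ | StrictMono γ ∧ rc p γ = rc p β.1 ∧ ∑ i, γ i = ∑ i, β.1 i}))
    fun χ ψ h => Subtype.ext (by
      have h2 := congrArg Subtype.val h
      have h' : (f χ).1 = (f ψ).1 := h2
      rw [← hf χ, ← hf ψ, show f χ = f ψ from Subtype.ext h'])

/-- A subgroup of the block's cycle centralizer that is a normal `p`-subgroup goes into the defect group. -/
theorem conj_into_defect (hM : IsPModular p M) {B : Set (IrrCharacter (Equiv.Perm (Fin n)))}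
    (hB : IsPBlock M B) {D : Subgroup (Equiv.Perm (Fin n))} (hD : IsDefectGroup p M B D)
    {χ : IrrCharacter (Equiv.Perm (Fin n))} (hχ : χ ∈ B) {y : Equiv.Perm (Fin n)}
    (hy : y ^ p = 1) (hval : (χ : Equiv.Perm (Fin n) → ℂ) y ≠ 0)
    (E : Subgroup (Subgroup.centralizer ({y} : Set (Equiv.Perm (Fin n))))) [E.Normal]
    (hE : IsPGroup p E) :
    ∃ c : Equiv.Perm (Fin n), ∀ a ∈ E.map (Subgroup.centralizer ({y} : Set (Equiv.Perm (Fin n)))).subtype,
      c * a * c⁻¹ ∈ D := by
  classical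
  have hord : ∃ k : ℕ, orderOf y = p ^ k := by
    have hdvd : orderOf y ∣ p ^ 1 := by simpa using orderOf_dvd_of_pow_eq_one hy
    obtain ⟨k, -, hk⟩ := (Nat.dvd_prime_pow hM.1).1 hdvd
    exact ⟨k, hk⟩
  haveI : Fintype (Subgroup.centralizer ({y} : Set (Equiv.Perm (Fin n)))) := Fintype.ofFinite _
  obtain ⟨D', hD', hle⟩ := exists_defectGroup_normal_le hM (isCentr_singleton y) hord hB hχ hval E hE
  obtain ⟨x, hx⟩ := defectGroup_conjugate hM hB hD' hD
  refine ⟨x, fun a ha => ?_⟩
  rw [← hx]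
  exact ⟨a, hle ha, rfl⟩

theorem two_pow_bound {W l c : ℕ} (h : l + c ≤ kk 2 W) (hW : 1 ≤ W) (hc : W ≤ c ∨ 7 ≤ W)
    (hc4 : W = 4 → 5 ≤ c) : l < 2 ^ W := by
  rcases Nat.lt_or_ge W 7 with hlt | hge
  · have hk := kk_two_small (w := W) (by omega)
    have : W ≤ c := hc.resolve_right (by omega)
    interval_cases W <;> simp at hk <;> norm_num <;> omega
  · have := kk_two_lt hge
    omega

theorem kk_zero : ∀ q, kk q 0 = 1
  | 0 => rfl
  | q + 1 => by simp [kk, pn_zero, kk_zero q]

theorem fin_two_add_self : ∀ u : Fin 2, u + u = 0 := by decide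

theorem exists_order_four (hM : IsPModular 2 M) {B : Set (IrrCharacter (Equiv.Perm (Fin n)))}
    (hB : IsPBlock M B) {D : Subgroup (Equiv.Perm (Fin n))} (hD : IsDefectGroup 2 M B D)
    {χ : IrrCharacter (Equiv.Perm (Fin n))} (hχ : χ ∈ B) {W k : ℕ} (hW : W = 4)
    (e : Fin n ≃ (Fin W × Fin 2) ⊕ Fin k)
    (hval : (χ : Equiv.Perm (Fin n) → ℂ) (lift e (cyc W 2)) ≠ 0) :
    ∃ τ : Equiv.Perm (Fin n), τ * τ ≠ 1 ∧ ∃ d, d * τ * d⁻¹ ∈ D := by
  subst hW
  obtain ⟨d, hd⟩ := conj_into_defect hM hB hD hχ (lift_cyc_pow e) hval (fourSub e) (fourSub_isPGroup e)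
  refine ⟨lift e tauFour, ?_, d, hd _ (lift_tauFour_mem e)⟩
  rw [← map_mul, ← map_one (lift e)]
  exact fun h => tauFour_sq (lift_injective e h)

/-- The rank of a block with nontrivial defect group is below `p` to the sectional rank. -/
theorem blockRank_lt_pow (hM : IsPModular p M) (B : Set (IrrCharacter (Equiv.Perm (Fin n))))
    (hB : IsPBlock M B) (D : Subgroup (Equiv.Perm (Fin n))) (hD : IsDefectGroup p M B D)
    (hD1 : D ≠ ⊥) (s : ℕ) (hs : SectionalPRankLE p s D) : blockRank p B < p ^ s := by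
  classical
  haveI : Fact p.Prime := ⟨hM.1⟩
  haveI : NeZero p := ⟨hM.1.ne_zero⟩
  have hDp := defectGroup_isPGroup hD
  obtain ⟨x0, hx0, hx0p⟩ : ∃ x ∈ D, orderOf x = p := by
    obtain ⟨k, hk⟩ := IsPGroup.iff_card.1 hDp
    have hk0 : k ≠ 0 := fun h => hD1 (Subgroup.card_eq_one.1 (by rw [hk, h, pow_zero]))
    obtain ⟨x, hx⟩ := exists_prime_orderOf_dvd_card' (G := D) p (hk ▸ dvd_pow_self p hk0)
    exact ⟨x, x.2, by rwa [Subgroup.orderOf_coe]⟩
  have hs1 : p ≤ p ^ s := by
    have h := card_le_of_sectional hs (Subgroup.zpowers_le.2 hx0)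
      (fun a ha b hb => by
        obtain ⟨i, rfl⟩ := Subgroup.mem_zpowers_iff.1 ha
        obtain ⟨j, rfl⟩ := Subgroup.mem_zpowers_iff.1 hb
        exact (Commute.zpow_zpow_self x0 i j).eq)
      (fun a ha => by
        obtain ⟨i, rfl⟩ := Subgroup.mem_zpowers_iff.1 ha
        rw [← zpow_natCast, ← zpow_mul, mul_comm, zpow_mul, zpow_natCast,
          show x0 ^ p = 1 from hx0p ▸ pow_orderOf_eq_one x0, one_zpow])
    rwa [Nat.card_zpowers, hx0p] at h
  obtain ⟨χ, hχ⟩ := block_nonempty hM hB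
  obtain ⟨β, rfl⟩ := irrOf_surjective χ
  have hk := card_block_le hM hB hχ
  set W := wt p β.1 with hW
  obtain ⟨k, e, hval⟩ := exists_cyc_value_ne_zero (p := p) β
  set y := lift e (cyc W p)
  have hyp : y ^ p = 1 := lift_cyc_pow e
  have hyval : (irrOf β : Equiv.Perm (Fin n) → ℂ) y ≠ 0 := by
    obtain ⟨a, ha1, ha⟩ := irrOf_spec β
    rw [ha, Pi.smul_apply, smul_eq_mul]
    exact mul_ne_zero (Int.cast_ne_zero.2 (by rcases ha1 with rfl | rfl <;> decide)) hval
  obtain ⟨c, hc⟩ := conj_into_defect hM hB hD hχ hyp hyval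
    (orbSub y hM.1.pos hyp) orbSub_isPGroup
  -- the rank
  have hWs : p ^ W ≤ p ^ s := by
    set E := (orbSub y hM.1.pos hyp).map
      (Subgroup.centralizer ({y} : Set (Equiv.Perm (Fin n)))).subtype with hE
    have hle : E.map (MulAut.conj c).toMonoidHom ≤ D := by
      rintro _ ⟨a, ha, rfl⟩
      exact hc a ha
    have h := card_le_of_sectional hs hle (fun a ha b hb => ?_) (fun a ha => ?_)
    · rw [Subgroup.card_map_of_injective (MulAut.conj c).injective] at h
      exact (pow_le_card_orbSub e).trans h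
    · obtain ⟨a', ⟨a'', ha'', rfl⟩, rfl⟩ := ha
      obtain ⟨b', ⟨b'', hb'', rfl⟩, rfl⟩ := hb
      rw [← map_mul, ← map_mul, ← map_mul, ← map_mul, orbSub_comm ha'' hb'']
    · obtain ⟨a', ⟨a'', ha'', rfl⟩, rfl⟩ := ha
      rw [← map_pow, ← map_pow, orbSub_pow ha'', map_one, map_one]
  have hlk : blockRank p B ≤ Nat.card B := blockRank_le B
  rcases Nat.eq_zero_or_pos W with hW0 | hWpos
  · rw [hW0] at hk
    have := kk_zero p
    have := hM.1.one_lt
    omega
  refine lt_of_lt_of_le ?_ hWs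
  by_cases hp2 : p = 2
  · subst hp2
    rcases Nat.lt_or_ge W 7 with hlt | hge
    swap
    · exact lt_of_le_of_lt (hlk.trans hk) (kk_two_lt hge)
    let t : Fin W → Fin W → Fin 2 := fun j a => if a ≤ j then 1 else 0
    let x : Fin W → Equiv.Perm (Fin n) := fun j => lift e (shift (t j))
    have hmoved : ∀ j, (univ.filter fun q => x j q ≠ q).card = (j.val + 1) * 2 := fun j => by
      rw [card_moved_lift]
      refine congrArg (· * 2) ?_
      rw [show (univ.filter fun a => t j a ≠ 0) = Finset.Iic j by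
        ext a
        by_cases h : a ≤ j <;> simp [t, h], Fin.card_Iic]
    have hinj : ∀ i j, IsConj (x i) (x j) → i = j := by
      intro i j h
      obtain ⟨d, hd⟩ := isConj_iff.1 h
      have := hmoved j
      rw [← hd, card_moved_conj, hmoved] at this
      exact Fin.ext (by omega)
    have hxinv : ∀ j, x j * x j = 1 := fun j => by
      rw [← map_mul, show shift (t j) * shift (t j) = 1 from Equiv.ext fun q => by
        simp only [Equiv.Perm.mul_apply, shift_apply, Equiv.Perm.one_apply, add_assoc]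
        refine Prod.ext rfl ?_
        show q.2 + (t j q.1 + t j q.1) = q.2
        rw [fin_two_add_self, add_zero], map_one]
    have hx1 : ∀ j, x j ≠ 1 := fun j h => by
      have := hmoved j
      simp [h] at this
    have hxD : ∀ j, ∃ d : Equiv.Perm (Fin n), d * x j * d⁻¹ ∈ D :=
      fun j => ⟨c, hc _ (lift_shift_mem e (t j))⟩
    by_cases hW4 : W = 4
    · obtain ⟨τ, htau, d, hd⟩ := exists_order_four hM hB hD hχ hW4 e hyval
      have hnc : ∀ j, ¬ IsConj (x j) τ := by
        intro j h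
        obtain ⟨u, hu⟩ := isConj_iff.1 h
        refine htau ?_
        rw [← hu]
        calc u * x j * u⁻¹ * (u * x j * u⁻¹) = u * (x j * x j) * u⁻¹ := by group
          _ = 1 := by rw [hxinv]; group
      have h := blockRank_add_card_le hM hB hD (insert τ (univ.image x)) ?_ ?_
      · have hnot : τ ∉ univ.image x := fun hh => by
          obtain ⟨j, -, hj⟩ := Finset.mem_image.1 hh
          exact hnc j (hj ▸ IsConj.refl _)
        rw [Finset.card_insert_of_notMem hnot,
          Finset.card_image_of_injective _ (fun i j hij => hinj i j ((show x i = x j from hij) ▸ IsConj.refl (x i))),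
          Finset.card_univ, Fintype.card_fin] at h
        exact two_pow_bound (h.trans hk) hWpos (Or.inl (by omega)) (fun _ => by omega)
      · intro z hz
        rcases Finset.mem_insert.1 hz with rfl | hz
        · exact ⟨fun h => htau (by rw [h, one_mul]), d, hd⟩
        · obtain ⟨j, -, rfl⟩ := Finset.mem_image.1 hz
          exact ⟨hx1 j, hxD j⟩
      · intro a ha b hb hab
        rcases Finset.mem_insert.1 ha with ha | ha <;> rcases Finset.mem_insert.1 hb with hb | hb
        · rw [ha, hb]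
        · obtain ⟨j, -, rfl⟩ := Finset.mem_image.1 hb
          exact absurd (ha ▸ hab).symm (hnc j)
        · obtain ⟨j, -, rfl⟩ := Finset.mem_image.1 ha
          exact absurd (hb ▸ hab) (hnc j)
        · obtain ⟨i, -, rfl⟩ := Finset.mem_image.1 ha
          obtain ⟨j, -, rfl⟩ := Finset.mem_image.1 hb
          rw [hinj i j hab]
    · have h := blockRank_add_card_le hM hB hD (univ.image x) ?_ ?_
      · rw [Finset.card_image_of_injective _ (fun i j hij => hinj i j ((show x i = x j from hij) ▸ IsConj.refl (x i))),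
          Finset.card_univ, Fintype.card_fin] at h
        exact two_pow_bound (h.trans hk) hWpos (Or.inl le_rfl) (fun e' => absurd e' hW4)
      · intro z hz
        obtain ⟨j, -, rfl⟩ := Finset.mem_image.1 hz
        exact ⟨hx1 j, hxD j⟩
      · intro a ha b hb hab
        obtain ⟨i, -, rfl⟩ := Finset.mem_image.1 ha
        obtain ⟨j, -, rfl⟩ := Finset.mem_image.1 hb
        rw [hinj i j hab]
  · have hp3 : 3 ≤ p := by have := hM.1.two_le; omega
    have h := blockRank_add_card_le hM hB hD {x0}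
      (fun z hz => by
        rw [Finset.mem_singleton] at hz
        subst hz
        refine ⟨fun h => ?_, 1, by simpa using hx0⟩
        rw [h, orderOf_one] at hx0p
        exact hM.1.ne_one hx0p.symm)
      (fun a ha b hb _ => by rw [Finset.mem_singleton] at ha hb; rw [ha, hb])
    rw [Finset.card_singleton] at h
    have := kk_le_pow hp3 W
    omega

end CfsgLib.SymBlock
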