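import Cfsg.Agent.Lib.SymBlock.Main
import Cfsg.Agent.Lib.Blocks.FirstMain
import Cfsg.Agent.Lib.Blocks.MajorValue

/-!
The defect groups of the symmetric group: Sylow subgroups of the symmetric group on `p` times the
weight points.
-/

set_option autoImplicit false
set_option linter.unusedSectionVars false
set_option linter.style.haveILetI false

namespace CfsgLib.SymBlock

open Cfsg CfsgLib.CharTheory CfsgLib.Blocks Finset
open scoped ComplexConjugate

variable {Ω : Type} [Fintype Ω] [DecidableEq Ω] {m p : ℕ}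

/-- A value vanishes when more than `p` times the weight points lie in cycles of length divisible
by `p`. -/
theorem chi_eq_zero_of_dset (hp : 0 < p) {β : Fin m → ℕ} (hβ : Function.Injective β)
    (hs : ∑ i, β i = Fintype.card Ω + tri m) (g : Equiv.Perm Ω)
    (h : p * wt p β < (dset p g).card) : chi β g = 0 := by
  have hinv : ∀ a, g a ∈ dset p g ↔ a ∈ dset p g := fun a => by
    rw [mem_dset, mem_dset, minimalPeriod_apply_self]
  obtain ⟨P, hP⟩ : ∃ P : Ω → Prop, ∀ a, a ∈ dset p g ↔ P a := ⟨_, fun a => Iff.rfl⟩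
  haveI : DecidablePred P := fun a => decidable_of_iff _ (hP a)
  have hinv' : ∀ a, P (g a) ↔ P a := fun a => by rw [← hP, ← hP, hinv]
  have hg : g = Equiv.Perm.subtypeCongr (g.subtypePerm hinv')
      (g.subtypePerm fun a => not_congr (hinv' a)) := by
    refine Equiv.ext fun a => ?_
    by_cases ha : P a <;> simp [Equiv.Perm.subtypeCongr.apply, ha]
  rw [hg, chi_subtypeCongr]
  refine Finset.sum_eq_zero fun f hf => ?_
  split_ifs with hle
  · have hd : ∀ a, p ∣ Function.minimalPeriod (g.subtypePerm hinv') a := fun a => by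
      rw [← minimalPeriod_semiconj (g := ⇑g) Subtype.val Subtype.val_injective (fun _ => rfl) a,
        ← mem_dset, hP]
      exact a.2
    have hc := fun i => dvd_cnt_of_periods _ hd (Finset.mem_filter.1 hf).2 i
    by_cases hinj : Function.Injective (β - cnt f)
    · refine chi_eq_zero_of_sum_ne (fun e => ?_) _
      have h1 := sum_eq_coreSum_add hp hinj
      have h2 := sum_eq_coreSum_add hp hβ
      rw [rc_sub hle hc, e, Fintype.card_subtype_compl,
        Fintype.card_congr (Equiv.subtypeEquivRight fun a => (hP a).symm), Fintype.card_coe] at h1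
      have := (dset p g).card_le_univ
      omega
    · exact chi_eq_zero_of_not_injective hinj _
  · rfl

/-- The centralizing permutations stabilising every orbit. -/
def orbCent (D : Subgroup (Equiv.Perm Ω)) : Subgroup (Equiv.Perm Ω) where
  carrier := {x | (∀ d ∈ D, d * x = x * d) ∧ ∀ a, ∃ d ∈ D, x a = d a}
  one_mem' := ⟨fun d _ => by rw [mul_one, one_mul], fun a => ⟨1, D.one_mem, rfl⟩⟩
  mul_mem' := by
    rintro x y ⟨x1, x2⟩ ⟨y1, y2⟩
    refine ⟨fun d hd => by rw [← mul_assoc, x1 d hd, mul_assoc, y1 d hd, mul_assoc], fun a => ?_⟩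
    obtain ⟨d, hd, hd'⟩ := y2 a
    obtain ⟨d', hd1, hd2⟩ := x2 a
    refine ⟨d * d', D.mul_mem hd hd1, ?_⟩
    rw [Equiv.Perm.mul_apply, hd', ← Equiv.Perm.mul_apply, ← x1 d hd, Equiv.Perm.mul_apply, hd2,
      Equiv.Perm.mul_apply]
  inv_mem' := by
    rintro x ⟨x1, x2⟩
    refine ⟨fun d hd => ?_, fun a => ?_⟩
    · exact (Commute.inv_right (show Commute d x from x1 d hd)).eq
    · obtain ⟨d, hd, hd'⟩ := x2 (x⁻¹ a)
      refine ⟨d⁻¹, D.inv_mem hd, ?_⟩
      rw [Equiv.Perm.eq_inv_iff_eq, ← hd']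
      simp

theorem mem_orbCent {D : Subgroup (Equiv.Perm Ω)} {x : Equiv.Perm Ω} :
    x ∈ orbCent D ↔ (∀ d ∈ D, d * x = x * d) ∧ ∀ a, ∃ d ∈ D, x a = d a := Iff.rfl

theorem pow_apply_orbit {D : Subgroup (Equiv.Perm Ω)} {x : Equiv.Perm Ω}
    (hx : ∀ d ∈ D, d * x = x * d) {a : Ω} {d : Equiv.Perm Ω} (hd : d ∈ D) (h : x a = d a) (i : ℕ) :
    (x ^ i) a = (d ^ i) a := by
  induction i with
  | zero => rfl
  | succ l ih =>
    rw [pow_succ', Equiv.Perm.mul_apply, ih, ← Equiv.Perm.mul_apply, ← hx _ (D.pow_mem hd l),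
      Equiv.Perm.mul_apply, h, ← Equiv.Perm.mul_apply, ← pow_succ]

theorem orbCent_pow {D : Subgroup (Equiv.Perm Ω)} {x : Equiv.Perm Ω} (hx : x ∈ orbCent D) :
    x ^ Nat.card D = 1 := by
  refine Equiv.ext fun a => ?_
  obtain ⟨d, hd, hd'⟩ := hx.2 a
  rw [pow_apply_orbit hx.1 hd hd', show d ^ Nat.card D = 1 from
    congrArg Subtype.val (pow_card_eq_one' (x := (⟨d, hd⟩ : D)))]

theorem orbCent_isPGroup [Fact p.Prime] {D : Subgroup (Equiv.Perm Ω)} (hD : IsPGroup p D) :
    IsPGroup p (orbCent D) := by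
  obtain ⟨k, hk⟩ := IsPGroup.iff_card.1 hD
  exact fun x => ⟨k, Subtype.ext (by rw [Subgroup.coe_pow, ← hk]; exact orbCent_pow x.2)⟩

/-- A central element of the image on one orbit, extended by the identity. -/
theorem exists_orbCent_ne [Fact p.Prime] {D : Subgroup (Equiv.Perm Ω)} (hD : IsPGroup p D) {a : Ω}
    (ha : ∃ d ∈ D, d a ≠ a) :
    ∃ x ∈ orbCent D, (∀ b, (¬ ∃ d ∈ D, d a = b) → x b = b) ∧ ∃ b, (∃ d ∈ D, d a = b) ∧ x b ≠ b := by
  classical
  set O : Set Ω := MulAction.orbit D a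
  let φ := MulAction.toPermHom D O
  haveI : Nontrivial φ.range := by
    obtain ⟨d, hd, hne⟩ := ha
    refine Subgroup.nontrivial_iff_exists_ne_one _ |>.2 ⟨φ ⟨d, hd⟩, ⟨⟨d, hd⟩, rfl⟩, fun h => hne ?_⟩
    exact congrArg Subtype.val (congrArg (fun e : Equiv.Perm O => e ⟨a, MulAction.mem_orbit_self a⟩) h)
  haveI := (hD.of_surjective φ.rangeRestrict φ.rangeRestrict_surjective).center_nontrivial
  obtain ⟨⟨⟨z, hz⟩, hzc⟩, hz1⟩ := exists_ne (1 : Subgroup.center φ.range)
  obtain ⟨d0, hd0⟩ := hz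
  have hmem : ∀ b, b ∈ O ↔ ∃ d ∈ D, d a = b := fun b =>
    ⟨fun ⟨d, hd⟩ => ⟨d.1, d.2, hd⟩, fun ⟨d, hd, e⟩ => ⟨⟨d, hd⟩, e⟩⟩
  have hz0 : ∀ b : O, ((z b : O) : Ω) = (d0 : Equiv.Perm Ω) (b : Ω) := fun b => by
    rw [← hd0]; rfl
  have hO : ∀ d ∈ D, ∀ b, d b ∈ O ↔ b ∈ O := by
    intro d hd b
    constructor
    · intro h
      obtain ⟨e, he, e'⟩ := (hmem _).1 h
      refine (hmem b).2 ⟨d⁻¹ * e, D.mul_mem (D.inv_mem hd) he, ?_⟩
      rw [Equiv.Perm.mul_apply, e']; simp
    · intro h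
      obtain ⟨e, he, e'⟩ := (hmem _).1 h
      exact (hmem _).2 ⟨d * e, D.mul_mem hd he, by rw [Equiv.Perm.mul_apply, e']⟩
  refine ⟨Equiv.Perm.ofSubtype z, ⟨fun d hd => Equiv.ext fun b => ?_, fun b => ?_⟩, fun b hb => ?_, ?_⟩
  · rw [Equiv.Perm.mul_apply, Equiv.Perm.mul_apply]
    by_cases hb : b ∈ O
    · rw [Equiv.Perm.ofSubtype_apply_of_mem z hb,
        Equiv.Perm.ofSubtype_apply_of_mem z ((hO d hd b).2 hb)]
      have h := congrArg (fun e : φ.range => ((e : Equiv.Perm O) ⟨b, hb⟩ : Ω))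
        (Subgroup.mem_center_iff.1 hzc ⟨φ ⟨d, hd⟩, ⟨⟨d, hd⟩, rfl⟩⟩)
      exact h
    · rw [Equiv.Perm.ofSubtype_apply_of_not_mem z hb,
        Equiv.Perm.ofSubtype_apply_of_not_mem z fun h => hb ((hO d hd b).1 h)]
  · by_cases hb : b ∈ O
    · exact ⟨d0, d0.2, by rw [Equiv.Perm.ofSubtype_apply_of_mem z hb, hz0]⟩
    · exact ⟨1, D.one_mem, by rw [Equiv.Perm.ofSubtype_apply_of_not_mem z hb]; rfl⟩
  · exact Equiv.Perm.ofSubtype_apply_of_not_mem z fun h => hb ((hmem b).1 h)
  · by_contra hc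
    push Not at hc
    refine hz1 (Subtype.ext (Subtype.ext (Equiv.ext fun b => Subtype.ext ?_)))
    have := hc b.1 ((hmem b.1).1 b.2)
    rw [Equiv.Perm.ofSubtype_apply_of_mem z b.2] at this
    simpa using this

/-- A central element moving every point the group moves. -/
theorem exists_central_moving [Fact p.Prime] {D : Subgroup (Equiv.Perm Ω)} (hD : IsPGroup p D)
    (hrad : orbCent D ≤ D) :
    ∃ z ∈ D, (∀ d ∈ D, d * z = z * d) ∧ ∀ a, (∃ d ∈ D, d a ≠ a) → z a ≠ a := by
  classical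
  obtain ⟨z, hz, hmax⟩ := Finset.exists_max_image
    (univ.filter fun z : Equiv.Perm Ω => z ∈ D ∧ ∀ d ∈ D, d * z = z * d)
    (fun z => (univ.filter fun a => z a ≠ a).card) ⟨1, by simp⟩
  obtain ⟨hzD, hzc⟩ := (Finset.mem_filter.1 hz).2
  refine ⟨z, hzD, hzc, fun a ha hza => ?_⟩
  obtain ⟨x, hx, hxoff, b, hb, hxb⟩ := exists_orbCent_ne hD ha
  have hfix : ∀ c, (∃ d ∈ D, d a = c) → z c = c := by
    rintro c ⟨d, hd, rfl⟩
    rw [← Equiv.Perm.mul_apply, ← hzc d hd, Equiv.Perm.mul_apply, hza]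
  have hxD := hrad hx
  refine absurd (hmax (z * x) ?_) (not_le.2 (Finset.card_lt_card ?_))
  · refine Finset.mem_filter.2 ⟨Finset.mem_univ _, D.mul_mem hzD hxD, fun d hd => ?_⟩
    rw [← mul_assoc, hzc d hd, mul_assoc, hx.1 d hd, mul_assoc]
  · refine ⟨fun c hc => ?_, fun hsub => ?_⟩
    · rw [Finset.mem_filter] at hc ⊢
      simp only [Finset.mem_univ, true_and, Equiv.Perm.mul_apply, ne_eq] at hc ⊢
      rw [hxoff c fun h => hc (hfix c h)]
      exact hc
    · have h1 : b ∈ univ.filter fun c => (z * x) c ≠ c := by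
        rw [Finset.mem_filter]
        simp only [Finset.mem_univ, true_and, Equiv.Perm.mul_apply, ne_eq]
        obtain ⟨d, hd, hdb⟩ := hb
        obtain ⟨d', hd', hd''⟩ := hx.2 b
        rw [hfix (x b) ⟨d' * d, D.mul_mem hd' hd, by rw [Equiv.Perm.mul_apply, hdb, hd'']⟩]
        exact hxb
      exact (Finset.mem_filter.1 (hsub h1)).2 (hfix b hb)

variable {n : ℕ} {M : Ideal AlgInt}

/-- Defect groups contain their orbit centralizers. -/
theorem orbCent_le_defect (hM : IsPModular p M) {B : Set (IrrCharacter (Equiv.Perm (Fin n)))}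
    (hB : IsPBlock M B) {D : Subgroup (Equiv.Perm (Fin n))} (hD : IsDefectGroup p M B D) :
    orbCent D ≤ D := by
  haveI : Fact p.Prime := ⟨hM.1⟩
  set H := Subgroup.normalizer (D : Set (Equiv.Perm (Fin n))) with hH
  haveI : Fintype H := Fintype.ofFinite _
  obtain ⟨c, ⟨hc, hcD, -⟩, -⟩ := firstMain_down hM (H := H) le_rfl hB hD
  have hEH : orbCent D ≤ H := fun x hx =>
    Subgroup.centralizer_le_normalizer _ (fun d hd => hx.1 d hd)
  haveI : ((orbCent D).subgroupOf H).Normal := by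
    refine ⟨fun x hx g => ?_⟩
    rw [Subgroup.mem_subgroupOf] at hx ⊢
    have hn := Subgroup.mem_normalizer_iff.1 g.2
    refine ⟨fun d hd => ?_, fun a => ?_⟩
    · have hd' : (g : Equiv.Perm (Fin n))⁻¹ * d * g ∈ D := by
        rw [hn]; simpa [mul_assoc] using hd
      have e := hx.1 _ hd'
      simp only [Subgroup.coe_mul, Subgroup.coe_inv]
      calc d * (g * (x : Equiv.Perm (Fin n)) * (g : Equiv.Perm (Fin n))⁻¹)
          = g * (((g : Equiv.Perm (Fin n))⁻¹ * d * g) * x) * (g : Equiv.Perm (Fin n))⁻¹ := by group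
        _ = g * (x * ((g : Equiv.Perm (Fin n))⁻¹ * d * g)) * (g : Equiv.Perm (Fin n))⁻¹ := by rw [e]
        _ = _ := by group
    · obtain ⟨d, hd, e⟩ := hx.2 ((g : Equiv.Perm (Fin n))⁻¹ a)
      refine ⟨g * d * (g : Equiv.Perm (Fin n))⁻¹, (hn d).1 hd, ?_⟩
      simp only [Subgroup.coe_mul, Subgroup.coe_inv, Equiv.Perm.mul_apply, e]
  intro x hx
  have h := normal_le_defectGroup hM hc (P := (orbCent D).subgroupOf H)
    ((orbCent_isPGroup (defectGroup_isPGroup hD)).comap_of_injective _ (Subgroup.subtype_injective _))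
    hcD (show (⟨x, hEH hx⟩ : H) ∈ _ from hx)
  exact h

/-- The points available to a defect group. -/
theorem defect_shape (hM : IsPModular p M) {B : Set (IrrCharacter (Equiv.Perm (Fin n)))}
    (hB : IsPBlock M B) {D : Subgroup (Equiv.Perm (Fin n))} (hD : IsDefectGroup p M B D)
    {β : Adm (Fin n) (Fintype.card (Fin n))} (hβ : irrOf β ∈ B) :
    ∃ F : Finset (Fin n), (∀ d ∈ D, ∀ a ∉ F, d a = a) ∧ p * wt p β.1 ≤ F.card ∧
      F.card < p * (wt p β.1 + 1) ∧
      ∀ Q : Subgroup (Equiv.Perm (Fin n)), IsPGroup p Q → (∀ q ∈ Q, ∀ a ∉ F, q a = a) →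
        ∃ c : Equiv.Perm (Fin n), ∀ q ∈ Q, c * q * c⁻¹ ∈ D := by
  classical
  haveI : Fact p.Prime := ⟨hM.1⟩
  haveI : NeZero p := ⟨hM.1.ne_zero⟩
  have hrad := orbCent_le_defect hM hB hD
  have hDp := defectGroup_isPGroup hD
  have hD' := hD
  obtain ⟨g, hg, S, hDS⟩ := hD
  set F := univ.filter fun a => g a = a with hF
  have hgc : ∀ d ∈ D, d * g = g * d := by
    rw [hDS]
    rintro _ ⟨r, -, rfl⟩
    exact Subgroup.mem_centralizer_singleton_iff.1 r.2
  have hfix : ∀ d ∈ D, ∀ a ∉ F, d a = a := by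
    intro d0 hd0 a ha
    by_contra hne
    have hga : g a ≠ a := fun h => ha (Finset.mem_filter.2 ⟨Finset.mem_univ _, h⟩)
    by_cases horb : ∃ d ∈ D, d a = g a
    · obtain ⟨d, hd, he⟩ := horb
      obtain ⟨k, hk⟩ := IsPGroup.iff_card.1 hDp
      have h1 : (g ^ p ^ k) a = a := by
        rw [pow_apply_orbit hgc hd he.symm, ← hk, show d ^ Nat.card D = 1 from
          congrArg Subtype.val (pow_card_eq_one' (x := (⟨d, hd⟩ : D)))]
        rfl
      have h2 : (g ^ orderOf g) a = a := by rw [pow_orderOf_eq_one]; rfl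
      have h3 := Nat.dvd_gcd (Function.IsPeriodicPt.minimalPeriod_dvd
          (show Function.IsPeriodicPt g (p ^ k) a by
            rw [Function.IsPeriodicPt, Function.IsFixedPt, ← Equiv.Perm.coe_pow]; exact h1))
        (Function.IsPeriodicPt.minimalPeriod_dvd
          (show Function.IsPeriodicPt g (orderOf g) a by
            rw [Function.IsPeriodicPt, Function.IsFixedPt, ← Equiv.Perm.coe_pow]; exact h2))
      rw [(Nat.Coprime.pow_left k ((Nat.Prime.coprime_iff_not_dvd hM.1).2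
        (isDefectClass_regular hM hB hg))).gcd_eq_one, Nat.dvd_one,
        Function.minimalPeriod_eq_one_iff_isFixedPt] at h3
      exact hga h3
    · obtain ⟨x, hx, hxoff, b, hb, hxb⟩ := exists_orbCent_ne hDp ⟨d0, hd0, hne⟩
      have hc := congrArg (fun e : Equiv.Perm (Fin n) => e b) (hgc x (hrad hx))
      simp only [Equiv.Perm.mul_apply] at hc
      rw [hxoff (g b) ?_] at hc
      · exact hxb (g.injective hc.symm)
      · rintro ⟨d, hd, he⟩
        obtain ⟨d', hd', rfl⟩ := hb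
        refine horb ⟨d'⁻¹ * d, D.mul_mem (D.inv_mem hd') hd, ?_⟩
        rw [Equiv.Perm.mul_apply, he, ← Equiv.Perm.mul_apply, ← Equiv.Perm.mul_apply,
          mul_assoc, ← hgc d' hd', inv_mul_cancel_left]
  have habsorb : ∀ Q : Subgroup (Equiv.Perm (Fin n)), IsPGroup p Q →
      (∀ q ∈ Q, ∀ a ∉ F, q a = a) → ∃ c : Equiv.Perm (Fin n), ∀ q ∈ Q, c * q * c⁻¹ ∈ D := by
    intro Q hQ hsupp
    have hQC : Q ≤ Subgroup.centralizer ({g} : Set (Equiv.Perm (Fin n))) := by
      intro q hq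
      rw [Subgroup.mem_centralizer_singleton_iff]
      refine Equiv.ext fun a => ?_
      simp only [Equiv.Perm.mul_apply]
      by_cases ha : a ∈ F
      · have hga := (Finset.mem_filter.1 ha).2
        have hqa : q a ∈ F := by
          by_contra h
          have := hsupp q hq _ h
          exact h ((q.injective this).symm ▸ ha)
        rw [hga, (Finset.mem_filter.1 hqa).2]
      · have hga : g a ∉ F := fun h => ha (Finset.mem_filter.2 ⟨Finset.mem_univ _,
          g.injective (Finset.mem_filter.1 h).2⟩)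
        rw [hsupp q hq a ha, hsupp q hq _ hga]
    obtain ⟨c, -, hc⟩ := exists_conj_le_sylow _ S hQ hQC
    exact ⟨c, fun q hq => hDS ▸ hc ⟨q, hq, rfl⟩⟩
  obtain ⟨k, e, hval⟩ := exists_cyc_value_ne_zero (p := p) β
  refine ⟨F, hfix, ?_, ?_, habsorb⟩
  · have hyval : (irrOf β : Equiv.Perm (Fin n) → ℂ) (lift e (cyc (wt p β.1) p)) ≠ 0 := by
      obtain ⟨a, ha1, ha⟩ := irrOf_spec β
      rw [ha, Pi.smul_apply, smul_eq_mul]
      exact mul_ne_zero (Int.cast_ne_zero.2 (by rcases ha1 with rfl | rfl <;> decide)) hval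
    obtain ⟨c, hc⟩ := conj_into_defect hM hB hD' hβ (lift_cyc_pow e) hyval
      (orbSub (lift e (cyc (wt p β.1) p)) hM.1.pos (lift_cyc_pow e)) orbSub_isPGroup
    have hy := hc _ (lift_shift_mem e fun _ => 1)
    have hcard := card_moved_lift e (fun _ : Fin (wt p β.1) => (1 : Fin p))
    have h1 : (1 : Fin p) ≠ 0 := fun h => by
      have := congrArg Fin.val h
      simp [Fin.val_one', Nat.one_mod_eq_one.2 hM.1.ne_one] at this
    rw [Finset.filter_true_of_mem fun _ _ => h1, Finset.card_univ, Fintype.card_fin (wt p β.1),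
      ← card_moved_conj _ c, mul_comm] at hcard
    rw [← hcard]
    refine Finset.card_le_card fun a ha => ?_
    by_contra h
    exact (Finset.mem_filter.1 ha).2 (hfix _ hy a h)
  · by_contra hlt
    push Not at hlt
    obtain ⟨F', hF', hF'c⟩ := Finset.exists_subset_card_eq hlt
    let e1 : {a // a ∈ F'} ≃ Fin (wt p β.1 + 1) × Fin p := Fintype.equivOfCardEq (by
      simp only [Fintype.card_coe, hF'c, Fintype.card_prod, Fintype.card_fin]; ring)
    let e' : Fin n ≃ (Fin (wt p β.1 + 1) × Fin p) ⊕ Fin (Fintype.card {a // ¬ a ∈ F'}) :=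
      (Equiv.sumCompl (· ∈ F')).symm.trans (Equiv.sumCongr e1 (Fintype.equivFin _))
    set y' := lift e' (cyc (wt p β.1 + 1) p) with hy'
    have hsupp : ∀ q ∈ Subgroup.zpowers y', ∀ a ∉ F, q a = a := by
      intro q hq a ha
      obtain ⟨j, rfl⟩ := Subgroup.mem_zpowers_iff.1 hq
      have ha' : a ∉ F' := fun h => ha (hF' h)
      have he : e' a = Sum.inr (Fintype.equivFin _ ⟨a, ha'⟩) := by
        simp [e', Equiv.sumCompl_symm_apply_of_neg ha']
      have h1 : y' a = a := by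
        rw [← e'.symm_apply_apply a, he, hy', lift_inr]
      exact Equiv.Perm.zpow_apply_eq_self_of_apply_eq_self h1 j
    have hy'p : y' ^ p = 1 := lift_cyc_pow e'
    have hord : ∃ i, orderOf y' = p ^ i := by
      have hdvd : orderOf y' ∣ p ^ 1 := by simpa using orderOf_dvd_of_pow_eq_one hy'p
      obtain ⟨i, -, hi⟩ := (Nat.dvd_prime_pow hM.1).1 hdvd
      exact ⟨i, hi⟩
    obtain ⟨c, hc⟩ := habsorb _ (isPGroup_zpowers hM.1 hord) hsupp
    obtain ⟨z, hzD, hzc, hzmov⟩ := exists_central_moving hDp hrad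
    obtain ⟨w, hcw, hw, hne⟩ := exists_major_value_ne_zero hM hB hD' hzD (fun d hd => hzc d hd) hβ
    obtain ⟨a, -, ha⟩ := irrOf_spec β
    apply hne
    rw [ha, Pi.smul_apply, chi_eq_zero_of_dset hM.1.pos β.2.1.injective β.2.2, smul_zero]
    -- the moved points of `z` lie in cycles of length divisible by `p`
    have hsub : (univ.filter fun a => z a ≠ a) ⊆ dset p (z * w) := by
      intro a ha
      rw [mem_dset]
      set j := Function.minimalPeriod (z * w) a
      have hj : ((z * w) ^ j) a = a := by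
        rw [Equiv.Perm.coe_pow]; exact Function.isPeriodicPt_minimalPeriod _ _
      have hjo : (z ^ (j * orderOf w)) a = a := by
        have h1 : (((z * w) ^ j) ^ orderOf w) a = a := by
          rw [Equiv.Perm.coe_pow]; exact Function.IsFixedPt.iterate hj _
        rw [← pow_mul, (hcw.symm : Commute z w).mul_pow, mul_comm j, pow_mul w, pow_orderOf_eq_one,
          one_pow, mul_one, mul_comm] at h1
        exact h1
      obtain ⟨i, hi⟩ := orderOf_pow_of_mem hM.1 hDp hzD
      have hzper : p ∣ Function.minimalPeriod z a := by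
        have hdvd : Function.minimalPeriod z a ∣ p ^ i :=
          Function.IsPeriodicPt.minimalPeriod_dvd (show (⇑z)^[p ^ i] a = a by
            rw [← Equiv.Perm.coe_pow, ← hi, pow_orderOf_eq_one]; rfl)
        obtain ⟨l, -, hl⟩ := (Nat.dvd_prime_pow hM.1).1 hdvd
        rw [hl]
        refine dvd_pow_self p fun h0 => (Finset.mem_filter.1 ha).2 ?_
        rw [h0, pow_zero, Function.minimalPeriod_eq_one_iff_isFixedPt] at hl
        exact hl
      have := hzper.trans (Function.IsPeriodicPt.minimalPeriod_dvd (show (⇑z)^[j * orderOf w] a = a by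
        rw [← Equiv.Perm.coe_pow]; exact hjo))
      exact ((Nat.Prime.dvd_mul hM.1).1 this).resolve_right hw
    refine lt_of_lt_of_le ?_ (Finset.card_le_card hsub)
    have hcard := card_moved_lift e' (fun _ : Fin (wt p β.1 + 1) => (1 : Fin p))
    have h1 : (1 : Fin p) ≠ 0 := fun h => by
      have := congrArg Fin.val h
      simp [Fin.val_one', Nat.one_mod_eq_one.2 hM.1.ne_one] at this
    rw [Finset.filter_true_of_mem fun _ _ => h1, Finset.card_univ, Fintype.card_fin (wt p β.1 + 1),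
      show shift (fun _ : Fin (wt p β.1 + 1) => (1 : Fin p)) = cyc (wt p β.1 + 1) p from rfl, ← hy',
      ← card_moved_conj _ c] at hcard
    refine lt_of_lt_of_le ?_ (Finset.card_le_card (s := univ.filter fun a => (c * y' * c⁻¹) a ≠ a)
      fun a ha => Finset.mem_filter.2 ⟨Finset.mem_univ a,
        hzmov a ⟨_, hc y' (Subgroup.mem_zpowers _), (Finset.mem_filter.1 ha).2⟩⟩)
    rw [hcard]
    have := hM.1.pos
    nlinarith

/-- Every `p`-subgroup moving at most `p` times the weight points is conjugate into a defect group. -/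
theorem conj_into_of_support (hM : IsPModular p M) {B : Set (IrrCharacter (Equiv.Perm (Fin n)))}
    (hB : IsPBlock M B) {D : Subgroup (Equiv.Perm (Fin n))} (hD : IsDefectGroup p M B D)
    {β : Adm (Fin n) (Fintype.card (Fin n))} (hβ : irrOf β ∈ B)
    {Q : Subgroup (Equiv.Perm (Fin n))} (hQ : IsPGroup p Q) (S : Finset (Fin n))
    (hS : S.card ≤ p * wt p β.1) (hsupp : ∀ q ∈ Q, ∀ a ∉ S, q a = a) :
    ∃ c : Equiv.Perm (Fin n), ∀ q ∈ Q, c * q * c⁻¹ ∈ D := by
  classical
  obtain ⟨F, -, hF, -, hsyl⟩ := defect_shape hM hB hD hβ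
  obtain ⟨T, hT, hTc⟩ := Finset.exists_subset_card_eq (hS.trans hF)
  let e0 : {a // a ∈ S} ≃ {a // a ∈ T} := Fintype.equivOfCardEq (by simp [hTc])
  let σ : Equiv.Perm (Fin n) := e0.extendSubtype
  obtain ⟨c, hc⟩ := hsyl (Q.map (MulAut.conj σ).toMonoidHom) (hQ.map _) (by
    rintro _ ⟨q, hq, rfl⟩ a ha
    have : σ⁻¹ a ∉ S := fun h => ha (hT (by
      have h2 := e0.extendSubtype_mem _ h
      simpa [σ] using h2))
    simp only [MulEquiv.coe_toMonoidHom, MulAut.conj_apply, Equiv.Perm.mul_apply]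
    rw [hsupp q hq _ this]
    simp)
  refine ⟨c * σ, fun q hq => ?_⟩
  have := hc _ ⟨q, hq, rfl⟩
  simpa [mul_assoc] using this

end CfsgLib.SymBlock
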