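import Cfsg.Agent.Lib.SymBlock.Alt
import Cfsg.Agent.Lib.Blocks.RegInt

/-!
Values on permutations with a stable subset, and the vanishing of the regular inner product of two
characters with different residues modulo `p`.
-/

set_option autoImplicit false
set_option linter.unusedSectionVars false

namespace CfsgLib.SymBlock

open Cfsg CfsgLib.CharTheory CfsgLib.Blocks Finset
open scoped ComplexConjugate

variable {X Y Ω Ω' : Type} [Fintype X] [DecidableEq X] [Fintype Y] [DecidableEq Y] [Fintype Ω]
  [DecidableEq Ω] [Fintype Ω'] [DecidableEq Ω'] {m p : ℕ}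

theorem alt_add (β c d : Fin m → ℕ) :
    alt β (c + d) = if ∀ i, c i ≤ β i then alt (β - c) d else 0 := by
  by_cases h : ∀ i, c i ≤ β i
  · rw [if_pos h, alt, alt]
    refine Finset.sum_congr rfl fun κ _ => if_congr (forall_congr' fun i => ?_) rfl rfl
    have := h i
    simp only [Pi.add_apply, Pi.sub_apply]
    omega
  · rw [if_neg h, alt]
    refine Finset.sum_eq_zero fun κ _ => if_neg fun h' => h fun i => ?_
    have := h' i
    simp only [Pi.add_apply] at this
    omega

theorem cnt_elim (f : X ⊕ Y → Fin m) : cnt f = cnt (f ∘ Sum.inl) + cnt (f ∘ Sum.inr) := by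
  funext i
  simp only [Pi.add_apply, cnt, Finset.card_filter, Fintype.sum_sum_type, Function.comp_apply]

/-- The value at a permutation preserving a partition of the points. -/
theorem chi_sumCongr (β : Fin m → ℕ) (y : Equiv.Perm X) (z : Equiv.Perm Y) :
    chi β (Equiv.Perm.sumCongr y z) = ∑ f ∈ univ.filter (fun f : X → Fin m => f ∘ y = f),
      if ∀ i, cnt f i ≤ β i then chi (β - cnt f) z else 0 := by
  have h1 : chi β (Equiv.Perm.sumCongr y z) =
      ∑ q ∈ (univ.filter fun f : X → Fin m => f ∘ y = f) ×ˢ
        (univ.filter fun f : Y → Fin m => f ∘ z = f), (alt β (cnt q.1 + cnt q.2) : ℂ) := by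
    rw [chi]
    refine Finset.sum_equiv (Equiv.sumArrowEquivProdArrow X Y (Fin m)) (fun f => ?_) fun f _ => ?_
    · simp only [Finset.mem_filter, Finset.mem_univ, true_and, Finset.mem_product, funext_iff,
        Sum.forall]
      simp
    · rw [cnt_elim f]
      rfl
  rw [h1, Finset.sum_product]
  refine Finset.sum_congr rfl fun f _ => ?_
  by_cases h : ∀ i, cnt f i ≤ β i
  · rw [if_pos h, chi]
    exact Finset.sum_congr rfl fun f' _ => by rw [alt_add, if_pos h]
  · rw [if_neg h]
    exact Finset.sum_eq_zero fun f' _ => by rw [alt_add, if_neg h, Int.cast_zero]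

theorem chi_permCongr (β : Fin m → ℕ) (e : Ω ≃ Ω') (g : Equiv.Perm Ω) :
    chi β (e.permCongr g) = chi β g := by
  rw [chi, chi]
  refine Finset.sum_equiv (Equiv.arrowCongr e.symm (Equiv.refl (Fin m))) (fun f => ?_) fun f _ => ?_
  · simp only [Finset.mem_filter, Finset.mem_univ, true_and, funext_iff]
    simp only [Function.comp_apply, Equiv.permCongr_apply, Equiv.arrowCongr_apply,
      Equiv.symm_symm, Equiv.coe_refl, id_eq]
    exact ⟨fun h a => by simpa using h (e a), fun h a => by simpa using h (e.symm a)⟩
  · refine congrArg (fun c => (alt β c : ℂ)) (funext fun i => ?_)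
    exact Finset.card_equiv e.symm (by simp)

theorem chi_subtypeCongr (β : Fin m → ℕ) {P : Ω → Prop} [DecidablePred P]
    (y : Equiv.Perm {a // P a}) (z : Equiv.Perm {a // ¬ P a}) :
    chi β (Equiv.Perm.subtypeCongr y z) = ∑ f ∈ univ.filter (fun f : {a // P a} → Fin m => f ∘ y = f),
      if ∀ i, cnt f i ≤ β i then chi (β - cnt f) z else 0 := by
  rw [show Equiv.Perm.subtypeCongr y z = (Equiv.sumCompl P).permCongr (Equiv.Perm.sumCongr y z)
    from rfl, chi_permCongr, chi_sumCongr]

/-- The points lying in cycles of length divisible by `p`. -/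
noncomputable def dset (p : ℕ) (g : Equiv.Perm Ω) : Finset Ω := by
  classical exact univ.filter fun a => p ∣ Function.minimalPeriod g a

theorem mem_dset {g : Equiv.Perm Ω} {a : Ω} :
    a ∈ dset p g ↔ p ∣ Function.minimalPeriod g a := by
  simp [dset]

theorem dvd_orderOf_iff (hp : p.Prime) (g : Equiv.Perm Ω) :
    p ∣ orderOf g ↔ dset p g ≠ ∅ := by
  rw [← Finset.nonempty_iff_ne_empty]
  constructor
  · intro h
    by_contra hne
    rw [Finset.not_nonempty_iff_eq_empty, Finset.eq_empty_iff_forall_notMem] at hne
    have hM : g ^ (∏ a, Function.minimalPeriod g a) = 1 := by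
      refine Equiv.ext fun a => ?_
      rw [Equiv.Perm.coe_pow, Equiv.Perm.one_apply]
      exact Function.isPeriodicPt_iff_minimalPeriod_dvd.2
        (Finset.dvd_prod_of_mem (fun b => Function.minimalPeriod g b) (Finset.mem_univ a))
    obtain ⟨a, -, ha⟩ := (hp.prime.dvd_finsetProd_iff _).1 (h.trans (orderOf_dvd_of_pow_eq_one hM))
    exact hne a (mem_dset.2 ha)
  · rintro ⟨a, ha⟩
    refine (mem_dset.1 ha).trans (Function.IsPeriodicPt.minimalPeriod_dvd ?_)
    show (⇑g)^[orderOf g] a = a
    rw [← Equiv.Perm.coe_pow, pow_orderOf_eq_one, Equiv.Perm.one_apply]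

theorem minimalPeriod_semiconj {Z : Type} {y : Z → Z} {g : Ω → Ω} (i : Z → Ω)
    (hi : Function.Injective i) (h : ∀ a, g (i a) = i (y a)) (a : Z) :
    Function.minimalPeriod g (i a) = Function.minimalPeriod y a := by
  refine Function.minimalPeriod_eq_minimalPeriod_iff.2 fun n => ?_
  have hs : Function.Semiconj i y g := fun b => (h b).symm
  show g^[n] (i a) = i a ↔ y^[n] a = a
  rw [← (hs.iterate_right n).eq a]
  exact hi.eq_iff

theorem minimalPeriod_apply_self (g : Equiv.Perm Ω) (a : Ω) :
    Function.minimalPeriod g (g a) = Function.minimalPeriod g a :=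
  minimalPeriod_semiconj g g.injective (fun _ => rfl) a

theorem dvd_card_of_periods (h : Equiv.Perm X) (hd : ∀ a, p ∣ Function.minimalPeriod h a) :
    p ∣ Fintype.card X := by
  classical
  rw [Fintype.card_congr (MulAction.selfEquivSigmaOrbits (Subgroup.zpowers h) X),
    Fintype.card_sigma]
  refine Finset.dvd_sum fun o _ => ?_
  have e := MulAction.minimalPeriod_eq_card (a := h) (b := o.out)
  rw [show Fintype.card (MulAction.orbit (Subgroup.zpowers h) o.out) =
    Function.minimalPeriod h o.out from e.symm]
  exact hd _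

theorem dvd_cnt_of_periods (y : Equiv.Perm X) (hd : ∀ a, p ∣ Function.minimalPeriod y a)
    {f : X → Fin m} (hf : f ∘ y = f) (i : Fin m) : p ∣ cnt f i := by
  rw [cnt, ← Fintype.card_subtype]
  refine dvd_card_of_periods (y.subtypePerm fun a => ?_) fun a => ?_
  · rw [show f (y a) = f a from congrFun hf a]
  · rw [← minimalPeriod_semiconj (g := y) Subtype.val Subtype.val_injective (fun _ => rfl) a]
    exact hd _

/-- The number of entries with a given residue. -/
def rc (p : ℕ) (β : Fin m → ℕ) (r : ℕ) : ℕ := (univ.filter fun i => β i % p = r).card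

theorem rc_comp (β : Fin m → ℕ) (σ : Equiv.Perm (Fin m)) : rc p (β ∘ σ) = rc p β :=
  funext fun _ => Finset.card_equiv σ (by simp)

theorem rc_sub {β c : Fin m → ℕ} (h : ∀ i, c i ≤ β i) (hc : ∀ i, p ∣ c i) :
    rc p (β - c) = rc p β := by
  funext r
  refine congrArg Finset.card (Finset.filter_congr fun i _ => ?_)
  obtain ⟨d, hd⟩ := hc i
  rw [show β i % p = ((β - c) i + p * d) % p by
    rw [← hd, Pi.sub_apply, Nat.sub_add_cancel (h i)], Nat.add_mul_mod_self_left]

theorem sum_chi_mul (β γ : Fin m → ℕ) :
    ∑ g : Equiv.Perm Ω, chi β g * chi γ g =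
      (Nat.card (Equiv.Perm Ω) : ℂ) * classInner (chi β : Equiv.Perm Ω → ℂ) (chi γ) := by
  rw [classInner, ← mul_assoc, mul_inv_cancel₀ (Nat.cast_ne_zero.2 Nat.card_pos.ne'), one_mul]
  exact Finset.sum_congr rfl fun g _ => by rw [chi_conj]

theorem classInner_chi_rc_ne {β γ : Fin m → ℕ} (h : rc p β ≠ rc p γ) :
    classInner (chi β : Equiv.Perm Ω → ℂ) (chi γ) = 0 := by
  by_cases hβ : Function.Injective β
  · by_cases hγ : Function.Injective γ
    · obtain ⟨σ, hσ⟩ := exists_sort hβ
      obtain ⟨τ, hτ⟩ := exists_sort hγ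
      have hne : β ∘ σ ≠ γ ∘ τ := fun e => h (by rw [← rc_comp β σ, e, rc_comp])
      have h0 := classInner_chi_ne (Ω := Ω) hσ hτ hne
      rw [show (chi (β ∘ σ) : Equiv.Perm Ω → ℂ) = ((Equiv.Perm.sign σ : ℤ) : ℂ) • chi β from
          funext (chi_comp β σ),
        show (chi (γ ∘ τ) : Equiv.Perm Ω → ℂ) = ((Equiv.Perm.sign τ : ℤ) : ℂ) • chi γ from
          funext (chi_comp γ τ), classInner_smul_left, classInner_smul_right] at h0
      simpa using h0
    · simp [classInner, chi_eq_zero_of_not_injective hγ]
  · simp [classInner, chi_eq_zero_of_not_injective hβ]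

/-- The sum over the regular permutations. -/
noncomputable def rsum (p : ℕ) (β γ : Fin m → ℕ) (Ω : Type) [Fintype Ω] [DecidableEq Ω] : ℂ :=
  ∑ g ∈ univ.filter (fun g : Equiv.Perm Ω => dset p g = ∅), chi β g * chi γ g

theorem rsum_eq_zero {β γ : Fin m → ℕ} (h : rc p β ≠ rc p γ) : rsum p β γ Ω = 0 := by
  suffices H : ∀ (N : ℕ) (Ω : Type) [Fintype Ω] [DecidableEq Ω], Fintype.card Ω = N →
      ∀ β γ : Fin m → ℕ, rc p β ≠ rc p γ → rsum p β γ Ω = 0 from H _ Ω rfl β γ h
  intro N
  induction N using Nat.strong_induction_on with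
  | _ N ih =>
    intro Ω _ _ hN β γ h
    have h0 : ∑ g : Equiv.Perm Ω, chi β g * chi γ g = 0 := by
      rw [sum_chi_mul, classInner_chi_rc_ne h, mul_zero]
    rw [← Finset.sum_fiberwise univ (dset p), Finset.sum_eq_single ∅] at h0
    · exact h0
    · intro S _ hS
      obtain ⟨P, hP⟩ : ∃ P : Ω → Prop, ∀ a, a ∈ S ↔ P a := ⟨_, fun a => Iff.rfl⟩
      haveI : DecidablePred P := fun a => decidable_of_iff _ (hP a)
      rw [show ∑ g ∈ univ.filter (fun g : Equiv.Perm Ω => dset p g = S), chi β g * chi γ g =
        ∑ q ∈ (univ.filter fun y : Equiv.Perm {a // P a} => dset p y = univ) ×ˢ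
          (univ.filter fun z : Equiv.Perm {a // ¬ P a} => dset p z = ∅),
          chi β (Equiv.Perm.subtypeCongr q.1 q.2) * chi γ (Equiv.Perm.subtypeCongr q.1 q.2) from ?_]
      · rw [Finset.sum_product]
        refine Finset.sum_eq_zero fun y hy => ?_
        have hy' : ∀ a, p ∣ Function.minimalPeriod y a := fun a =>
          mem_dset.1 (by rw [(Finset.mem_filter.1 hy).2]; exact Finset.mem_univ a)
        simp only [chi_subtypeCongr, Finset.sum_mul_sum]
        rw [Finset.sum_comm]
        refine Finset.sum_eq_zero fun f hf => ?_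
        rw [Finset.sum_comm]
        refine Finset.sum_eq_zero fun f' hf' => ?_
        by_cases hc : ∀ i, cnt f i ≤ β i
        · by_cases hc' : ∀ i, cnt f' i ≤ γ i
          · simp only [if_pos hc, if_pos hc']
            refine ih _ ?_ {a // ¬ P a} rfl _ _ ?_
            · rw [← hN, Fintype.card_subtype_compl, Fintype.card_congr (Equiv.subtypeEquivRight fun a => (hP a).symm), Fintype.card_coe]
              have hpos : 0 < S.card := Finset.card_pos.2 (Finset.nonempty_iff_ne_empty.2 hS)
              have := S.card_le_univ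
              omega
            · rwa [rc_sub hc fun i => dvd_cnt_of_periods y hy' (Finset.mem_filter.1 hf).2 i,
                rc_sub hc' fun i => dvd_cnt_of_periods y hy' (Finset.mem_filter.1 hf').2 i]
          · exact Finset.sum_eq_zero fun z _ => mul_eq_zero_of_right _ (if_neg hc')
        · exact Finset.sum_eq_zero fun z _ => mul_eq_zero_of_left (if_neg hc) _
      · symm
        refine Finset.sum_bij (fun q _ => Equiv.Perm.subtypeCongr q.1 q.2) (fun q hq => ?_)
          (fun a _ b _ e => ?_) (fun g hg => ?_) fun _ _ => rfl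
        · simp only [Finset.mem_product, Finset.mem_filter, Finset.mem_univ, true_and] at hq ⊢
          ext a
          rw [mem_dset]
          by_cases ha : P a
          · have e := minimalPeriod_semiconj (g := ⇑(Equiv.Perm.subtypeCongr q.1 q.2))
              (y := ⇑q.1) Subtype.val Subtype.val_injective
              (fun b => Equiv.Perm.subtypeCongr.left_apply_subtype _ _ b) ⟨a, ha⟩
            simp only at e
            rw [e, ← mem_dset, hq.1]
            simp [ha, hP a]
          · have e := minimalPeriod_semiconj (g := ⇑(Equiv.Perm.subtypeCongr q.1 q.2))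
              (y := ⇑q.2) Subtype.val Subtype.val_injective
              (fun b => Equiv.Perm.subtypeCongr.right_apply_subtype _ _ b) ⟨a, ha⟩
            simp only at e
            rw [e, ← mem_dset, hq.2]
            simp [ha, hP a]
        · refine Prod.ext (Equiv.ext fun b => Subtype.ext ?_) (Equiv.ext fun b => Subtype.ext ?_)
          · simpa using congrArg (fun k : Equiv.Perm Ω => k b.1) e
          · simpa using congrArg (fun k : Equiv.Perm Ω => k b.1) e
        · have hS' := (Finset.mem_filter.1 hg).2
          have hinv : ∀ a, P (g a) ↔ P a := fun a => by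
            rw [← hP, ← hP, ← hS', mem_dset, mem_dset, minimalPeriod_apply_self]
          refine ⟨(g.subtypePerm hinv, g.subtypePerm fun a => not_congr (hinv a)), ?_, ?_⟩
          · simp only [Finset.mem_product, Finset.mem_filter, Finset.mem_univ, true_and,
              Finset.eq_univ_iff_forall, Finset.eq_empty_iff_forall_notMem, mem_dset]
            constructor
            · intro a
              rw [← minimalPeriod_semiconj (g := ⇑g) Subtype.val Subtype.val_injective
                (fun _ => rfl) a, ← mem_dset, hS']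
              rw [hP]
              exact a.2
            · intro a
              rw [← minimalPeriod_semiconj (g := ⇑g) Subtype.val Subtype.val_injective
                (fun _ => rfl) a, ← mem_dset, hS']
              rw [hP]
              exact a.2
          · refine Equiv.ext fun a => ?_
            by_cases ha : P a <;> simp [Equiv.Perm.subtypeCongr.apply, ha]
    · simp

/-- Characters with different residues are orthogonal on regular elements. -/
theorem regS_chi_eq_zero (hp : p.Prime) {β γ : Fin m → ℕ} (h : rc p β ≠ rc p γ) :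
    regS p (chi β : Equiv.Perm Ω → ℂ) (chi γ) = 0 := by
  rw [regS_eq_sum, ← rsum_eq_zero (Ω := Ω) h, rsum]
  refine Finset.sum_congr (Finset.filter_congr fun g _ => ?_) fun g _ => by rw [chi_inv]
  rw [dvd_orderOf_iff hp, not_not]

end CfsgLib.SymBlock
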