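import Cfsg.Agent.Lib.SymBlock.Class

/-!
The value of a character at a product of as many `p`-cycles as its weight.
-/

set_option autoImplicit false
set_option linter.unusedSectionVars false

namespace CfsgLib.SymBlock

open Cfsg CfsgLib.CharTheory Finset
open scoped Nat

variable {m p W : ℕ}

/-- `W` disjoint `p`-cycles. -/
def cyc (W p : ℕ) [NeZero p] : Equiv.Perm (Fin W × Fin p) :=
  Equiv.prodCongr (Equiv.refl (Fin W)) (Equiv.addRight 1)

theorem fixed_cyc_iff [NeZero p] (f : Fin W × Fin p → Fin m) :
    f ∘ cyc W p = f ↔ f = (fun a => f (a, 0)) ∘ Prod.fst := by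
  constructor
  · intro h
    funext x
    obtain ⟨a, b⟩ := x
    have key : ∀ k : ℕ, f (a, Fin.ofNat p k) = f (a, 0) := by
      intro k
      induction k with
      | zero => exact congrArg (fun b => f (a, b)) (Fin.ext (by simp [Fin.ofNat]))
      | succ l ih =>
        rw [← ih]
        refine Eq.trans ?_ (congrFun h (a, Fin.ofNat p l))
        refine congrArg (fun b => f (a, b)) (Fin.ext ?_)
        simp [Fin.ofNat, Fin.val_add, Nat.add_mod]
    show f (a, b) = f (a, 0)
    rw [← key b.1]
    exact congrArg (fun b => f (a, b)) (Fin.ext (by simp [Fin.ofNat, Nat.mod_eq_of_lt b.2]))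
  · intro h
    funext x
    rw [h]
    rfl

theorem cnt_comp_fst [NeZero p] (u : Fin W → Fin m) (i : Fin m) :
    cnt (u ∘ (Prod.fst : Fin W × Fin p → Fin W)) i = p * cnt u i := by
  have : (univ.filter fun x : Fin W × Fin p => u x.1 = i) =
      (univ.filter fun a => u a = i) ×ˢ (univ : Finset (Fin p)) := by
    ext x; simp
  simp only [cnt, Function.comp_apply, this, Finset.card_product, Finset.card_univ, Fintype.card_fin]
  ring

theorem card_cnt_eq_mul (c : Fin m → ℕ) (hc : ∑ i, c i = W) :
    (univ.filter fun u : Fin W → Fin m => cnt u = c).card * ∏ i, (c i)! = W ! := by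
  classical
  obtain ⟨u0, hu0⟩ : ∃ u : Fin W → Fin m, cnt u = c := by
    have e : Fintype.card (Σ i, Fin (c i)) = Fintype.card (Fin W) := by simp [hc]
    refine ⟨fun a => ((Fintype.equivOfCardEq e).symm a).1, funext fun i => ?_⟩
    rw [cnt, Finset.card_equiv (Fintype.equivOfCardEq e).symm
      (t := ({i} : Finset (Fin m)).sigma fun _ => univ) (by simp)]
    simp
  have h := Finset.card_eq_sum_card_fiberwise (f := fun g : Equiv.Perm (Fin W) => u0 ∘ g)
    (s := univ) (t := univ.filter fun u : Fin W → Fin m => cnt u = c)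
    (fun g _ => Finset.mem_filter.2 ⟨Finset.mem_univ _, (cnt_comp u0 g).trans hu0⟩)
  rw [Finset.card_univ, Fintype.card_perm, Fintype.card_fin] at h
  rw [h, Finset.sum_congr rfl (g := fun _ => ∏ i, (c i)!), Finset.sum_const, smul_eq_mul]
  intro u hu
  obtain ⟨g0, hg0⟩ : ∃ g0 : Equiv.Perm (Fin W), u0 ∘ g0 = u := by
    have hcard : ∀ i, Fintype.card {a // u a = i} = Fintype.card {a // u0 a = i} := fun i => by
      rw [Fintype.card_subtype, Fintype.card_subtype]
      exact congrFun ((Finset.mem_filter.1 hu).2.trans hu0.symm) i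
    exact ⟨Equiv.ofFiberEquiv fun i => Fintype.equivOfCardEq (hcard i),
      funext fun a => Equiv.ofFiberEquiv_map _ a⟩
  have h2 := DomMulAct.stabilizer_card u0
  rw [Fintype.card_subtype] at h2
  rw [← hg0, Finset.card_equiv (Equiv.mulRight g0⁻¹)
    (t := univ.filter fun g : Equiv.Perm (Fin W) => u0 ∘ g = u0) ?_, h2]
  · refine Finset.prod_congr rfl fun i _ => ?_
    rw [Fintype.card_subtype]
    exact congrArg Nat.factorial (congrFun hu0 i)
  · intro g
    simp only [Finset.mem_filter, Finset.mem_univ, true_and, Equiv.coe_mulRight]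
    constructor
    · intro e
      funext a
      simpa using congrFun e (g0⁻¹ a)
    · intro e
      funext a
      simpa using congrFun e (g0 a)

/-- The condition that a rearrangement of the core matches a vector of cycle counts. -/
def match' (p : ℕ) (β : Fin m → ℕ) (σ : Equiv.Perm (Fin m)) (c : Fin m → ℕ) : Prop :=
  ∀ i, β i = core p β (σ i) + p * c i

instance (p : ℕ) (β : Fin m → ℕ) (σ : Equiv.Perm (Fin m)) (c : Fin m → ℕ) :
    Decidable (match' p β σ c) := inferInstanceAs (Decidable (∀ _, _))

/-- The multiplicity of the core value. -/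
def mult (p W : ℕ) (β : Fin m → ℕ) : ℤ :=
  ∑ u : Fin W → Fin m, ∑ σ : Equiv.Perm (Fin m),
    if match' p β σ (cnt u) then (Equiv.Perm.sign σ : ℤ) else 0

theorem chi_cyc_eq [NeZero p] {Y : Type} [Fintype Y] [DecidableEq Y] {β : Fin m → ℕ}
    (hβ : Function.Injective β) (hY : ∑ i, core p β i = Fintype.card Y + tri m)
    (z : Equiv.Perm Y) :
    chi β (Equiv.Perm.sumCongr (cyc W p) z) = (mult p W β : ℂ) * chi (core p β) z := by
  have hp : 0 < p := Nat.pos_of_ne_zero (NeZero.ne p)
  rw [chi_sumCongr, mult, Int.cast_sum, Finset.sum_mul]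
  refine Finset.sum_bij' (fun f _ a => f (a, 0)) (fun u _ => u ∘ Prod.fst) (fun _ _ => Finset.mem_univ _)
    (fun u _ => ?_) (fun f hf => ?_) (fun u _ => rfl) fun f hf => ?_
  · rw [Finset.mem_filter, fixed_cyc_iff]
    exact ⟨Finset.mem_univ _, rfl⟩
  · exact ((fixed_cyc_iff f).1 (Finset.mem_filter.1 hf).2).symm
  · set u : Fin W → Fin m := fun a => f (a, 0)
    have hc : cnt f = fun i => p * cnt u i := by
      rw [(fixed_cyc_iff f).1 (Finset.mem_filter.1 hf).2]
      funext i
      exact cnt_comp_fst u i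
    rw [Int.cast_sum, Finset.sum_mul]
    by_cases hσ : ∃ σ, match' p β σ (cnt u)
    · obtain ⟨σ, hσ⟩ := hσ
      rw [Finset.sum_eq_single σ (fun τ _ hτ => by
          rw [if_neg, Int.cast_zero, zero_mul]
          intro hτ'
          refine hτ (Equiv.ext fun i => core_injective hp hβ ?_)
          have h1 := hτ' i
          have h2 := hσ i
          omega) (by simp), if_pos hσ]
      have hle : ∀ i, cnt f i ≤ β i := fun i => by
        simp only [hc]
        have := hσ i
        omega
      rw [if_pos hle, ← chi_comp]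
      refine congrArg (fun γ => chi γ z) (funext fun i => ?_)
      simp only [hc, Pi.sub_apply, Function.comp_apply]
      have := hσ i
      omega
    · rw [Finset.sum_eq_zero fun τ _ => by
        rw [if_neg fun h => hσ ⟨τ, h⟩, Int.cast_zero, zero_mul]]
      split_ifs with hle
      · by_contra hne
        have hinj : Function.Injective (β - cnt f) := by
          by_contra hni
          exact hne (chi_eq_zero_of_not_injective hni z)
        have hs : ∑ i, (β - cnt f) i = ∑ i, core p β i := by
          by_contra hns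
          exact hne (chi_eq_zero_of_sum_ne (fun e => hns (e.trans hY.symm)) z)
        obtain ⟨σ, hσ'⟩ := exists_perm_core hp hβ hinj
          (rc_sub hle fun i => by simp only [hc]; exact dvd_mul_right p _) hs
        refine hσ ⟨σ, fun i => ?_⟩
        have h1 := congrFun hσ' i
        have h2 := hle i
        simp only [hc, Pi.sub_apply, Function.comp_apply] at h1 h2
        omega
      · rfl

/-- The matrix of inverse factorials. -/
def factMat (p : ℕ) (β : Fin m → ℕ) : Matrix (Fin m) (Fin m) ℚ :=
  Matrix.of fun j i => if β j % p = β i % p ∧ rank p β j ≤ β i / p then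
    (((β i / p - rank p β j)! : ℕ) : ℚ)⁻¹ else 0

theorem mult_eq [NeZero p] {β : Fin m → ℕ} (hβ : Function.Injective β) (hW : W = wt p β) :
    (mult p W β : ℚ) = (W ! : ℚ) * (factMat p β).det := by
  have hp : 0 < p := Nat.pos_of_ne_zero (NeZero.ne p)
  have hm : ∀ σ c, match' p β σ c ↔
      (∀ i, β (σ i) % p = β i % p ∧ rank p β (σ i) ≤ β i / p) ∧
        c = fun i => β i / p - rank p β (σ i) := by
    intro σ c
    rw [match', funext_iff, ← forall_and]
    refine forall_congr' fun i => ?_
    constructor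
    · intro h
      have h1 : β i % p = β (σ i) % p := by
        rw [h, Nat.add_mul_mod_self_left, core_mod hp]
      have h2 : β i / p = rank p β (σ i) + c i := by
        rw [h, Nat.add_mul_div_left _ _ hp, core_div hp]
      exact ⟨⟨h1.symm, by omega⟩, by omega⟩
    · rintro ⟨⟨h1, h2⟩, h3⟩
      calc β i = β i % p + p * (β i / p) := (Nat.mod_add_div _ _).symm
        _ = _ := by
          rw [core, h1, h3, add_assoc, ← Nat.mul_add, Nat.add_sub_cancel' h2]
  rw [Matrix.det_apply', mult, Finset.sum_comm, Int.cast_sum, Finset.mul_sum]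
  refine Finset.sum_congr rfl fun σ _ => ?_
  simp only [factMat, Matrix.of_apply]
  by_cases h : ∀ i, β (σ i) % p = β i % p ∧ rank p β (σ i) ≤ β i / p
  · set c : Fin m → ℕ := fun i => β i / p - rank p β (σ i)
    have hcW : ∑ i, c i = W := by
      have h1 : ∑ i, β i = ∑ i, core p β i + p * ∑ i, c i := by
        rw [← Equiv.sum_comp σ (core p β), Finset.mul_sum, ← Finset.sum_add_distrib]
        exact Finset.sum_congr rfl fun i _ => (hm σ c).2 ⟨h, rfl⟩ i
      rw [← sum_core hp hβ, ← hW] at h1
      exact (Nat.eq_of_mul_eq_mul_left hp (Nat.add_left_cancel h1)).symm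
    have hM := card_cnt_eq_mul c hcW
    rw [Finset.prod_congr rfl fun i _ => if_pos (h i), Finset.prod_inv_distrib]
    have hne : (∏ i, (((c i)! : ℕ) : ℚ)) ≠ 0 :=
      Finset.prod_ne_zero_iff.2 fun i _ => Nat.cast_ne_zero.2 (Nat.factorial_ne_zero _)
    rw [show ∑ u : Fin W → Fin m, (if match' p β σ (cnt u) then (Equiv.Perm.sign σ : ℤ) else 0) =
      ((univ.filter fun u : Fin W → Fin m => cnt u = c).card : ℤ) * (Equiv.Perm.sign σ : ℤ) by
        simp only [hm, iff_true_intro h, true_and, ← Finset.sum_filter, Finset.sum_const,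
          nsmul_eq_mul]
        rfl]
    rw [show (∏ x, (((β x / p - rank p β (σ x))! : ℕ) : ℚ)) = ∏ i, (((c i)! : ℕ) : ℚ) from rfl,
      ← hM, Int.cast_mul, Int.cast_natCast, Nat.cast_mul, Nat.cast_prod]
    field_simp
  · rw [Finset.sum_eq_zero fun u _ => if_neg fun hh => h ((hm σ _).1 hh).1]
    obtain ⟨i, hi⟩ := not_forall.1 h
    have hz : (∏ i, if β (σ i) % p = β i % p ∧ rank p β (σ i) ≤ β i / p then
        (((β i / p - rank p β (σ i))! : ℕ) : ℚ)⁻¹ else 0) = 0 :=
      Finset.prod_eq_zero (Finset.mem_univ i) (if_neg hi)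
    rw [hz]
    simp

theorem factMat_det_ne_zero [NeZero p] {β : Fin m → ℕ} (hβ : Function.Injective β) :
    (factMat p β).det ≠ 0 := by
  intro hdet
  rw [← Matrix.det_transpose, ← Matrix.exists_mulVec_eq_zero_iff] at hdet
  obtain ⟨v, hv, hzero⟩ := hdet
  apply hv
  funext j0
  show v j0 = 0
  set r := β j0 % p
  set J := univ.filter fun j : Fin m => β j % p = r with hJ
  set P : Polynomial ℚ := ∑ j ∈ J, Polynomial.C (v j) * descPochhammer ℚ (rank p β j) with hPdef
  have heval : ∀ x : ℕ, P.eval (x : ℚ) = ∑ j ∈ J, v j * (x.descFactorial (rank p β j) : ℚ) := fun x => by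
    simp [hPdef, Polynomial.eval_finset_sum, descPochhammer_eval_eq_descFactorial]
  have hP : P = 0 := by
    refine Polynomial.eq_zero_of_degree_lt_of_eval_finset_eq_zero
      (J.image fun i => ((β i / p : ℕ) : ℚ)) ?_ ?_
    · rw [Finset.card_image_of_injOn (fun a ha b hb e => hβ (by
        have h1 := (Finset.mem_filter.1 ha).2
        have h2 := (Finset.mem_filter.1 hb).2
        have h3 : β a / p = β b / p := Nat.cast_injective e
        rw [← Nat.div_add_mod (β a) p, h1, h3, ← h2, Nat.div_add_mod]))]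
      refine lt_of_le_of_lt (Polynomial.degree_sum_le _ _) ((Finset.sup_lt_iff (WithBot.bot_lt_coe _)).2 fun j hj => ?_)
      refine lt_of_le_of_lt ((Polynomial.degree_mul_le _ _).trans ((add_le_add Polynomial.degree_C_le le_rfl).trans_eq (zero_add _)) : _ ≤ (descPochhammer ℚ (rank p β j)).degree)
        (lt_of_le_of_lt Polynomial.degree_le_natDegree ?_)
      rw [descPochhammer_natDegree]
      have := rank_lt_rc (p := p) (β := β) j
      rw [(Finset.mem_filter.1 hj).2] at this
      exact_mod_cast this
    · intro x hx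
      obtain ⟨i, hi, rfl⟩ := Finset.mem_image.1 hx
      rw [heval]
      have h1 := congrFun hzero i
      simp only [Matrix.mulVec, dotProduct, Matrix.transpose_apply, factMat, Matrix.of_apply,
        Pi.zero_apply, (Finset.mem_filter.1 hi).2, ite_mul, zero_mul] at h1
      have h2 : ∑ j ∈ J, v j * ((β i / p).descFactorial (rank p β j) : ℚ) =
          ((β i / p)! : ℚ) * ∑ j, if β j % p = r ∧ rank p β j ≤ β i / p then
            (((β i / p - rank p β j)! : ℕ) : ℚ)⁻¹ * v j else 0 := by
        rw [Finset.mul_sum, hJ, Finset.sum_filter]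
        refine Finset.sum_congr rfl fun j _ => ?_
        by_cases hj : β j % p = r
        · by_cases hle : rank p β j ≤ β i / p
          · rw [if_pos hj, if_pos ⟨hj, hle⟩, ← Nat.factorial_mul_descFactorial hle, Nat.cast_mul]
            have hf : (((β i / p - rank p β j)! : ℕ) : ℚ) ≠ 0 :=
              Nat.cast_ne_zero.2 (Nat.factorial_ne_zero _)
            field_simp
          · rw [if_pos hj, if_neg fun hh => hle hh.2,
              Nat.descFactorial_eq_zero_iff_lt.2 (not_le.1 hle)]
            simp
        · rw [if_neg hj, if_neg fun hh => hj hh.1, mul_zero]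
      rw [h2, h1, mul_zero]
  by_contra hne
  obtain ⟨j, hj, hmin⟩ := Finset.exists_min_image (J.filter fun j => v j ≠ 0) (rank p β)
    ⟨j0, by simp [hJ, r, hne]⟩
  obtain ⟨hjJ, hjv⟩ := Finset.mem_filter.1 hj
  have h := heval (rank p β j)
  rw [hP, Polynomial.eval_zero, Finset.sum_eq_single j ?_ (fun h' => absurd hjJ h'),
    Nat.descFactorial_self] at h
  · exact mul_ne_zero hjv (Nat.cast_ne_zero.2 (Nat.factorial_ne_zero _)) h.symm
  · intro k hk hkj
    by_cases hkv : v k = 0
    · rw [hkv, zero_mul]
    · have hle := hmin k (Finset.mem_filter.2 ⟨hk, hkv⟩)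
      have hlt : rank p β j < rank p β k := by
        refine lt_of_le_of_ne hle fun e => hkj ?_
        have hres : β k % p = β j % p :=
          (Finset.mem_filter.1 hk).2.trans (Finset.mem_filter.1 hjJ).2.symm
        rcases Nat.lt_trichotomy (β k) (β j) with hl | he | hl
        · exact absurd e (rank_strict hres hl).ne'
        · exact hβ he
        · exact absurd e (rank_strict hres.symm hl).ne
      rw [Nat.descFactorial_eq_zero_iff_lt.2 hlt, Nat.cast_zero, mul_zero]

theorem mult_ne_zero [NeZero p] {β : Fin m → ℕ} (hβ : Function.Injective β) :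
    mult p (wt p β) β ≠ 0 := by
  intro h
  have h1 := mult_eq (W := wt p β) hβ rfl
  rw [h, Int.cast_zero] at h1
  exact mul_ne_zero (Nat.cast_ne_zero.2 (Nat.factorial_ne_zero _)) (factMat_det_ne_zero hβ) h1.symm

theorem tri_le_sum_injective {γ : Fin m → ℕ} (hγ : Function.Injective γ) : tri m ≤ ∑ i, γ i := by
  have h := tri_le_sum (univ.image γ)
  rwa [Finset.card_image_of_injective _ hγ, Finset.card_univ, Fintype.card_fin,
    Finset.sum_image fun a _ b _ e => hγ e] at h

/-- A character does not vanish at a product of as many `p`-cycles as its weight. -/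
theorem exists_cyc_value_ne_zero [NeZero p] {Ω : Type} [Fintype Ω] [DecidableEq Ω]
    (β : Adm Ω m) : ∃ (k : ℕ) (e : Ω ≃ (Fin (wt p β.1) × Fin p) ⊕ Fin k),
      chi β.1 (e.symm.permCongr (Equiv.Perm.sumCongr (cyc (wt p β.1) p) 1)) ≠ 0 := by
  have hp : 0 < p := Nat.pos_of_ne_zero (NeZero.ne p)
  have hinj := β.2.1.injective
  have h1 := sum_core hp hinj
  have h2 := β.2.2
  have h3 := tri_le_sum_injective (core_injective hp hinj)
  have hle : p * wt p β.1 ≤ Fintype.card Ω := by omega
  let e : Ω ≃ (Fin (wt p β.1) × Fin p) ⊕ Fin (Fintype.card Ω - p * wt p β.1) :=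
    Fintype.equivOfCardEq (by
      simp only [Fintype.card_sum, Fintype.card_prod, Fintype.card_fin]
      rw [mul_comm]
      omega)
  refine ⟨_, e, ?_⟩
  have hsum : ∑ i, core p β.1 i =
      Fintype.card (Fin (Fintype.card Ω - p * wt p β.1)) + tri m := by
    rw [Fintype.card_fin]; omega
  rw [chi_permCongr, chi_cyc_eq hinj hsum]
  refine mul_ne_zero (Int.cast_ne_zero.2 (mult_ne_zero hinj)) ?_
  obtain ⟨σ, hσ⟩ := exists_sort (core_injective hp hinj)
  have hadm : ∑ i, (core p β.1 ∘ σ) i =
      Fintype.card (Fin (Fintype.card Ω - p * wt p β.1)) + tri m := by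
    rw [← hsum]; exact Equiv.sum_comp σ _
  intro h0
  obtain ⟨s, -, hs⟩ := irrOf_spec (⟨_, hσ, hadm⟩ : Adm (Fin (Fintype.card Ω - p * wt p β.1)) m)
  refine CfsgLib.CharTheory.irr_ne_zero (irrOf (⟨_, hσ, hadm⟩ :
    Adm (Fin (Fintype.card Ω - p * wt p β.1)) m)).2 ?_
  rw [hs, Pi.smul_apply, chi_comp, h0, mul_zero, smul_zero]

end CfsgLib.SymBlock
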